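import Cfsg.Agent.Lib.Classical.Solubilizer.Lifting

/-!
# Solubilizers of involutions and of unipotent elements
-/

set_option autoImplicit false
set_option linter.unusedSectionVars false
set_option linter.unusedSimpArgs false
set_option linter.style.haveILetI false

open Matrix
open scoped MatrixGroups commutatorElement

namespace CfsgLib.Classical.Solubilizer

variable {F : Type*} [Field F] [Finite F]

local notation "M2" => Matrix (Fin 2) (Fin 2) F
local notation "SL2" => Matrix.SpecialLinearGroup (Fin 2) F

/-- The standard unipotent element. -/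
def unip : SL2 := mk2 1 1 0 1 (by ring)

theorem unip_trace : ((unip : SL2) : M2).trace = 2 := by
  rw [unip, mk2_coe, trace_fin_two_of]; norm_num

theorem unip_nonscalar : ∀ r : F, ((unip : SL2) : M2) ≠ r • 1 :=
  nonscalar_of_entries _ (Or.inl (by simp [unip, mk2]))

theorem unip_mul_trace (b : SL2) : ((unip * b : SL2) : M2).trace = b.1 0 0 + b.1 1 1 + b.1 1 0 := by
  rw [coe_mul', unip, mk2_coe, trace_fin_two]
  simp [Matrix.mul_apply, Fin.sum_univ_two]
  ring

theorem unip_cases {b : SL2} (h : Sol unip b) :
    b.1 1 0 = 0 ∨ TwoZero unip b ∨ ((2 : F) ≠ 0 ∧ (IsSquare (2 : F) ∨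
      ∀ g ∈ Subgroup.closure ({(unip : SL2), b} : Set SL2), ((g ^ 3 : SL2) : M2).trace = 0 ∨
        ((g ^ 3 : SL2) : M2).trace = 2 ∨ ((g ^ 3 : SL2) : M2).trace = -2)) := by
  rcases soluble_cases h with ⟨w, hw0, ⟨μ, hμ⟩, ν, hν⟩ | h | h | h
  · left
    rw [unip, mk2_coe] at hμ
    have a0 := congrFun hμ 0
    have a1 := congrFun hμ 1
    simp [Matrix.mulVec, dotProduct, Fin.sum_univ_two] at a0 a1
    have hw1 : w 1 = 0 := by
      by_contra h1
      have hm : μ = 1 := mul_right_cancel₀ h1 (by linear_combination -a1)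
      rw [hm] at a0
      exact h1 (by linear_combination a0)
    have hw : w 0 ≠ 0 := fun h => hw0 (funext fun i => by fin_cases i <;> simp [h, hw1])
    have b1 := congrFun hν 1
    simp [Matrix.mulVec, dotProduct, Fin.sum_univ_two, hw1] at b1
    exact b1.resolve_right hw
  · left
    have := congrFun (congrFun (show ((unip : SL2) : M2) * (b : M2) = (b : M2) * ((unip : SL2) : M2) from
      congrArg Subtype.val h) 0) 0
    simp [unip, mk2, Matrix.mul_apply, Fin.sum_univ_two] at this
    exact this
  · exact Or.inr (Or.inl h)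
  · exact Or.inr (Or.inr h)

/-- Elements with nonzero lower corner and a condition on corner and trace. -/
theorem card_corner (P : F → F → Prop) :
    Nat.card {b : SL2 // b.1 1 0 ≠ 0 ∧ P (b.1 1 0) (b.1 0 0 + b.1 1 1)} =
      Nat.card {p : F × F // p.1 ≠ 0 ∧ P p.1 p.2} * Nat.card F := by
  rw [← Nat.card_prod]
  exact Nat.card_congr
    { toFun := fun b => (⟨(b.1.1 1 0, b.1.1 0 0 + b.1.1 1 1), b.2⟩, b.1.1 0 0)
      invFun := fun p => ⟨mk2 p.2 ((p.2 * (p.1.1.2 - p.2) - 1) / p.1.1.1) p.1.1.1 (p.1.1.2 - p.2) (by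
          have := p.1.2.1
          field_simp
          ring), by
          refine ⟨p.1.2.1, ?_⟩
          convert p.1.2.2 using 1
          · rfl
          · show p.2 + (p.1.1.2 - p.2) = p.1.1.2
            ring⟩
      left_inv := fun b => Subtype.ext (sl_ext4 rfl (by
          have := det_eq b.1
          simp [mk2]
          field_simp [b.2.1]
          linear_combination this) rfl (by simp [mk2]))
      right_inv := fun p => Prod.ext (Subtype.ext (Prod.ext rfl (by simp [mk2]))) rfl }

theorem card_sol_unip_of_iff (P : F → F → Prop)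
    (hiff : ∀ b : SL2, Sol unip b ↔ b.1 1 0 = 0 ∨ (b.1 1 0 ≠ 0 ∧ P (b.1 1 0) (b.1 0 0 + b.1 1 1))) :
    Nat.card {b : SL2 // Sol unip b} =
      (Nat.card F - 1) * Nat.card F + Nat.card {p : F × F // p.1 ≠ 0 ∧ P p.1 p.2} * Nat.card F := by
  classical
  have hd : Disjoint (fun b : SL2 => b.1 1 0 = 0)
      (fun b : SL2 => b.1 1 0 ≠ 0 ∧ P (b.1 1 0) (b.1 0 0 + b.1 1 1)) := by
    rw [Pi.disjoint_iff]
    intro b
    rw [Prop.disjoint_iff]
    tauto
  rw [Nat.card_congr (Equiv.subtypeEquivRight hiff), Nat.card_congr (subtypeOrEquiv _ _ hd), Nat.card_sum,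
    card_upper, card_corner]

/-- Characteristic two: the solubilizer of the standard involution. -/
theorem card_sol_unip_two (h2 : (2 : F) = 0) :
    Nat.card {b : SL2 // Sol unip b} = 3 * Nat.card F * (Nat.card F - 1) := by
  classical
  have hux : ((unip : SL2) : M2).trace = 0 := by rw [unip_trace, h2]
  rw [card_sol_unip_of_iff (fun c y => y = 0 ∨ y = -c) ?_]
  · have : Nat.card {p : F × F // p.1 ≠ 0 ∧ (p.2 = 0 ∨ p.2 = -p.1)} = (Nat.card F - 1) * 2 := by
      rw [show (2 : ℕ) = Nat.card Bool by simp, ← Nat.card_units, ← Nat.card_prod]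
      exact (Nat.card_congr (α := Fˣ × Bool) (β := {p : F × F // p.1 ≠ 0 ∧ (p.2 = 0 ∨ p.2 = -p.1)})
        { toFun := fun p => ⟨((p.1 : F), if p.2 then 0 else -(p.1 : F)),
            p.1.ne_zero, by cases p.2 <;> simp⟩
          invFun := fun p => (Units.mk0 p.1.1 p.2.1, decide (p.1.2 = 0))
          left_inv := fun p => by
            obtain ⟨c, e⟩ := p
            cases e <;> simp
          right_inv := fun p => by
            obtain ⟨⟨c, y⟩, hc, hy⟩ := p
            refine Subtype.ext (Prod.ext rfl ?_)
            rcases hy with h | h <;> simp only at h hc <;> subst h <;> simp [hc] }).symm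
    rw [this]
    ring
  · intro b
    constructor
    · intro h
      by_cases h10 : b.1 1 0 = 0
      · exact Or.inl h10
      refine Or.inr ⟨h10, ?_⟩
      rcases unip_cases h with h | h | ⟨h, -⟩
      · exact absurd h h10
      · rcases h with ⟨-, h⟩ | ⟨-, h⟩ | ⟨h, -⟩
        · exact Or.inl (by rwa [← trace_fin_two])
        · refine Or.inr ?_
          rw [unip_mul_trace] at h
          linear_combination h
        · exact Or.inl (by rwa [← trace_fin_two])
      · exact absurd h2 h
    · rintro (h | ⟨-, h | h⟩)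
      · exact sol_upper (by simp [unip, mk2]) h
      · exact sol_twoZero (Or.inl ⟨hux, by rwa [trace_fin_two]⟩)
      · exact sol_twoZero (Or.inr (Or.inl ⟨hux, by rw [unip_mul_trace, h, neg_add_cancel]⟩))

section Three

/-- The element belongs to the prime field of characteristic three. -/
def InThree (x : F) : Prop := x = 0 ∨ x = 1 ∨ x = -1

theorem commutator_bound_two : ∀ g h : Matrix.SpecialLinearGroup (Fin 2) (ZMod 3),
    (g * h * g⁻¹ * h⁻¹).1.trace = 0 ∨ ((g * h * g⁻¹ * h⁻¹).1 0 1 = 0 ∧ (g * h * g⁻¹ * h⁻¹).1 1 0 = 0 ∧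
      (g * h * g⁻¹ * h⁻¹).1 0 0 = (g * h * g⁻¹ * h⁻¹).1 1 1) := by
  decide +kernel

theorem quaternion_closed : ∀ g h : Matrix.SpecialLinearGroup (Fin 2) (ZMod 3),
    (g.1.trace = 0 ∨ (g.1 0 1 = 0 ∧ g.1 1 0 = 0 ∧ g.1 0 0 = g.1 1 1)) →
    (h.1.trace = 0 ∨ (h.1 0 1 = 0 ∧ h.1 1 0 = 0 ∧ h.1 0 0 = h.1 1 1)) →
    (((g * h).1.trace = 0 ∨ ((g * h).1 0 1 = 0 ∧ (g * h).1 1 0 = 0 ∧ (g * h).1 0 0 = (g * h).1 1 1)) ∧
      (g⁻¹.1.trace = 0 ∨ (g⁻¹.1 0 1 = 0 ∧ g⁻¹.1 1 0 = 0 ∧ g⁻¹.1 0 0 = g⁻¹.1 1 1)) ∧
      ((g * h * g⁻¹ * h⁻¹).1 0 1 = 0 ∧ (g * h * g⁻¹ * h⁻¹).1 1 0 = 0 ∧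
        (g * h * g⁻¹ * h⁻¹).1 0 0 = (g * h * g⁻¹ * h⁻¹).1 1 1)) := by
  decide +kernel

theorem solvable_sl_three : Group.IsSolvable (Matrix.SpecialLinearGroup (Fin 2) (ZMod 3)) := by
  let Q : Subgroup (Matrix.SpecialLinearGroup (Fin 2) (ZMod 3)) :=
    { carrier := {g | g.1.trace = 0 ∨ (g.1 0 1 = 0 ∧ g.1 1 0 = 0 ∧ g.1 0 0 = g.1 1 1)}
      one_mem' := Or.inr (by simp)
      mul_mem' := fun hg hh => (quaternion_closed _ _ hg hh).1
      inv_mem' := fun hg => (quaternion_closed _ _ hg hg).2.1 }
  refine ⟨⟨3, ?_⟩⟩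
  have h1 : derivedSeries (Matrix.SpecialLinearGroup (Fin 2) (ZMod 3)) 1 ≤ Q := by
    rw [derivedSeries_succ, derivedSeries_zero, Subgroup.commutator_le]
    intro g _ h _
    rw [commutatorElement_def]
    exact commutator_bound_two g h
  have h2 : derivedSeries (Matrix.SpecialLinearGroup (Fin 2) (ZMod 3)) 2 ≤
      Subgroup.center (Matrix.SpecialLinearGroup (Fin 2) (ZMod 3)) := by
    rw [derivedSeries_succ]
    refine (Subgroup.commutator_mono h1 h1).trans (Subgroup.commutator_le.2 ?_)
    intro g hg h hh
    haveI : Fact (Nat.Prime 3) := ⟨by norm_num⟩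
    obtain ⟨e1, e2, e3⟩ := (quaternion_closed g h hg hh).2.2
    rw [commutatorElement_def, center_iff]
    refine ⟨(g * h * g⁻¹ * h⁻¹).1 0 0, ?_⟩
    ext i j
    fin_cases i <;> fin_cases j <;> simp [Matrix.one_apply]
    · exact e1
    · exact e2
    · exact e3.symm
  rw [derivedSeries_succ, eq_bot_iff]
  refine (Subgroup.commutator_mono h2 h2).trans (Subgroup.commutator_le.2 ?_)
  intro g hg h _
  rw [Subgroup.mem_bot, commutatorElement_def, ← Subgroup.mem_center_iff.1 hg h]
  group

theorem sol_inThree [CharP F 3] {a b : SL2} (ha : ∀ i j, InThree (a.1 i j)) (hb : ∀ i j, InThree (b.1 i j)) :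
    Sol a b := by
  haveI : Fact (Nat.Prime 3) := ⟨by norm_num⟩
  set f : ZMod 3 →+* F := ZMod.castHom (dvd_refl 3) F with hf
  set φ := Matrix.SpecialLinearGroup.map (n := Fin 2) f with hφ
  have hmem : ∀ c : SL2, (∀ i j, InThree (c.1 i j)) → c ∈ φ.range := by
    intro c hc
    have hl : ∀ i j, ∃ r : ZMod 3, f r = c.1 i j := by
      intro i j
      rcases hc i j with h | h | h <;> rw [h]
      · exact ⟨0, map_zero f⟩
      · exact ⟨1, map_one f⟩
      · exact ⟨-1, by rw [map_neg, map_one]⟩
    choose r hr using hl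
    have hm : f.mapMatrix (Matrix.of r) = (c : M2) := by
      ext i j
      simp [hr]
    refine ⟨⟨Matrix.of r, f.injective ?_⟩, Subtype.ext hm⟩
    rw [RingHom.map_det, hm, map_one]
    exact c.2
  haveI := solvable_sl_three
  haveI : Group.IsSolvable φ.range := Group.isSolvable_of_surjective φ.rangeRestrict_surjective
  exact solvable_le ((Subgroup.closure_le _).2 (by rintro x (rfl | rfl) <;> exact hmem _ (by assumption))) this

theorem inThree_cube [CharP F 3] {T : F} (h : T ^ 3 - 3 * T = 0 ∨ T ^ 3 - 3 * T = 2 ∨ T ^ 3 - 3 * T = -2) :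
    InThree T := by
  have h3 : (3 : F) = 0 := by exact_mod_cast CharP.cast_eq_zero F 3
  rcases h with h | h | h
  · refine Or.inl (pow_eq_zero_iff (n := 3) (by norm_num) |>.1 ?_)
    linear_combination h + T * h3
  · refine Or.inr (Or.inr (eq_neg_of_add_eq_zero_left (pow_eq_zero_iff (n := 3) (by norm_num) |>.1 ?_)))
    linear_combination h + (T ^ 2 + 2 * T + 1) * h3
  · refine Or.inr (Or.inl (sub_eq_zero.1 (pow_eq_zero_iff (n := 3) (by norm_num) |>.1 ?_)))
    linear_combination h + (-T ^ 2 + 2 * T - 1) * h3

theorem card_inThree [CharP F 3] : Nat.card {x : F // InThree x} = 3 := by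
  classical
  haveI : Fact (Nat.Prime 3) := ⟨by norm_num⟩
  have h2 : (2 : F) ≠ 0 := by
    intro h
    have h3 : (3 : F) = 0 := by exact_mod_cast CharP.cast_eq_zero F 3
    exact one_ne_zero (by linear_combination h3 - h : (1 : F) = 0)
  have hs : ({0, 1, -1} : Finset F).card = 3 := by
    rw [Finset.card_insert_of_notMem (by simp), Finset.card_pair]
    intro h
    exact h2 (by linear_combination h)
  rw [← hs, ← Nat.card_eq_finsetCard]
  exact Nat.card_congr (Equiv.subtypeEquivRight fun x => by simp [InThree])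

theorem card_inThree_ne_zero [CharP F 3] : Nat.card {x : F // x ≠ 0 ∧ InThree x} = 2 := by
  classical
  have h2 : (2 : F) ≠ 0 := by
    intro h
    have h3 : (3 : F) = 0 := by exact_mod_cast CharP.cast_eq_zero F 3
    exact one_ne_zero (by linear_combination h3 - h : (1 : F) = 0)
  have hs : ({1, -1} : Finset F).card = 2 := Finset.card_pair fun h => h2 (by linear_combination h)
  rw [← hs, ← Nat.card_eq_finsetCard]
  exact Nat.card_congr (Equiv.subtypeEquivRight fun x => by
    simp only [InThree, Finset.mem_insert, Finset.mem_singleton]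
    constructor
    · rintro ⟨h0, h | h | h⟩
      · exact absurd h h0
      · exact Or.inl h
      · exact Or.inr h
    · rintro (h | h) <;> simp [h])

theorem inThree_add [CharP F 3] {x y : F} (hx : InThree x) (hy : InThree y) : InThree (x + y) := by
  have h3 : (3 : F) = 0 := by exact_mod_cast CharP.cast_eq_zero F 3
  rcases hx with hx | hx | hx <;> rcases hy with hy | hy | hy <;> rw [hx, hy] <;> unfold InThree
  all_goals
    first
      | exact Or.inl (by ring1)
      | exact Or.inr (Or.inl (by ring1))
      | exact Or.inr (Or.inr (by ring1))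
      | exact Or.inr (Or.inl (by linear_combination -h3))
      | exact Or.inr (Or.inr (by linear_combination h3))

theorem inThree_neg {x : F} (hx : InThree x) : InThree (-x) := by
  rcases hx with h | h | h <;> simp [InThree, h]

/-- Characteristic three: the solubilizer of the standard element of order three. -/
theorem card_sol_unip_three [CharP F 3] (hsq : ¬ IsSquare (2 : F)) :
    Nat.card {b : SL2 // Sol unip b} = Nat.card F * (Nat.card F + 5) := by
  classical
  have h3 : (3 : F) = 0 := by exact_mod_cast CharP.cast_eq_zero F 3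
  have h2 : (2 : F) ≠ 0 := fun h => one_ne_zero (by linear_combination h3 - h : (1 : F) = 0)
  rw [card_sol_unip_of_iff (fun c y => InThree c ∧ InThree y) ?_]
  · have : Nat.card {p : F × F // p.1 ≠ 0 ∧ InThree p.1 ∧ InThree p.2} = 2 * 3 := by
      have e := Nat.card_congr (Equiv.subtypeProdEquivProd
        (p := fun x : F => x ≠ 0 ∧ InThree x) (q := fun y : F => InThree y))
      rw [Nat.card_prod, card_inThree, card_inThree_ne_zero] at e
      rw [← e]
      exact Nat.card_congr (Equiv.subtypeEquivRight fun p => and_assoc.symm)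
    rw [this]
    obtain ⟨k, hk⟩ := Nat.exists_eq_add_of_le (Nat.card_pos : 0 < Nat.card F)
    rw [hk, Nat.add_sub_cancel_left]
    ring
  · intro b
    constructor
    · intro h
      by_cases h10 : b.1 1 0 = 0
      · exact Or.inl h10
      refine Or.inr ⟨h10, ?_⟩
      rcases unip_cases h with h | h | ⟨-, h | h⟩
      · exact absurd h h10
      · rw [TwoZero, unip_trace, unip_mul_trace, trace_fin_two] at h
        rcases h with ⟨h, -⟩ | ⟨h, -⟩ | ⟨h1, h2'⟩
        · exact absurd h h2
        · exact absurd h h2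
        · exact absurd (by linear_combination h2' - h1) h10
      · exact absurd h hsq
      · have hy := h b (Subgroup.subset_closure (Or.inr rfl))
        have hz := h (unip * b) (mul_mem (Subgroup.subset_closure (Or.inl rfl)) (Subgroup.subset_closure (Or.inr rfl)))
        rw [trace_cube, trace_fin_two] at hy
        rw [trace_cube, unip_mul_trace] at hz
        have hy' := inThree_cube hy
        refine ⟨?_, hy'⟩
        have := inThree_add (inThree_cube hz) (inThree_neg hy')
        rwa [show b.1 0 0 + b.1 1 1 + b.1 1 0 + -(b.1 0 0 + b.1 1 1) = b.1 1 0 by ring] at this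
    · rintro (h | ⟨h10, hc, hy⟩)
      · exact sol_upper (by simp [unip, mk2]) h
      · set s := b.1 0 0 * b.1 1 0 with hs
        have hc1 : b.1 1 0 * b.1 1 0 = 1 := by
          rcases hc with h | h | h
          · exact absurd h h10
          · rw [h, mul_one]
          · rw [h]; ring
        set k : GL (Fin 2) F := Matrix.GeneralLinearGroup.mkOfDetNeZero !![1, s; 0, 1]
          (by rw [det_fin_two_of]; norm_num) with hk
        have hkv : (k : M2) = !![1, s; 0, 1] := rfl
        set b' : SL2 := mk2 0 (-b.1 1 0) (b.1 1 0) (b.1 0 0 + b.1 1 1) (by linear_combination hc1)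
        have conj_of : ∀ c c' : SL2, (c : M2) * (k : M2) = (k : M2) * (c' : M2) → conjEquiv k c = c' := by
          intro c c' h
          refine Subtype.ext ?_
          rw [conjEquiv_coe, mul_assoc, h, ← mul_assoc, ← Units.val_mul, inv_mul_cancel, Units.val_one, one_mul]
        rw [← sol_map (conjEquiv k), conj_of unip unip ?_, conj_of b b' ?_]
        · refine sol_inThree (fun i j => ?_) (fun i j => ?_)
          · fin_cases i <;> fin_cases j <;> simp [unip, mk2, InThree]
          · fin_cases i <;> fin_cases j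
            · exact Or.inl rfl
            · exact inThree_neg hc
            · exact hc
            · exact hy
        · have := det_eq b
          rw [hkv, mk2_coe]
          ext i j
          fin_cases i <;> fin_cases j <;> simp [Matrix.mul_apply, Fin.sum_univ_two, hs]
          · linear_combination (-b.1 0 0) * hc1
          · linear_combination (-b.1 1 0) * this - b.1 0 1 * hc1
          · linear_combination b.1 0 0 * hc1
        · rw [hkv, unip, mk2_coe]
          ext i j
          fin_cases i <;> fin_cases j <;> simp [Matrix.mul_apply, Fin.sum_univ_two, add_comm]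

/-- The coordinates `(tr b, tr Jb, u, v)` relative to `J = !![0, -1; 1, 0]`. -/
theorem card_sol_involution_three [CharP F 3] (hsq : ¬ IsSquare (2 : F)) :
    Nat.card {b : SL2 // Sol (companion 0) b} = 2 * Nat.card F * (Nat.card F + 1) := by
  classical
  have h3 : (3 : F) = 0 := by exact_mod_cast CharP.cast_eq_zero F 3
  have h2 : (2 : F) ≠ 0 := fun h => one_ne_zero (by linear_combination h3 - h : (1 : F) = 0)
  have hirr : ∀ x : F, x * x + 0 * x + 1 ≠ 0 := fun x h => hsq ⟨x, by linear_combination h3 - h⟩
  set J : SL2 := companion 0 with hJ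
  have hJt : (J : M2).trace = 0 := by simp [hJ, companion, mk2, trace_fin_two]
  have hJb : ∀ b : SL2, ((J * b : SL2) : M2).trace = b.1 0 1 - b.1 1 0 := by
    intro b
    rw [coe_mul', hJ, companion, mk2_coe, trace_fin_two]
    simp [Matrix.mul_apply, Fin.sum_univ_two]
    ring
  let T : F × F → Prop := fun p =>
    ((p.1 = 0 ∧ p.2 ∉ ({1, -1} : Finset F)) ∨ (p.2 = 0 ∧ p.1 ∉ ({0, 1, -1} : Finset F))) ∨
      (p.1 ∈ ({1, -1} : Finset F) ∧ p.2 ∈ ({1, -1} : Finset F))
  have hpm : ∀ x : F, x ∈ ({1, -1} : Finset F) ↔ x * x = 1 := by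
    intro x
    rw [mul_self_eq_one_iff]
    simp
  have hiff : ∀ b : SL2, Sol J b ↔ J * b = b * J ∨
      (¬ J * b = b * J ∧ T (b.1 0 0 + b.1 1 1, b.1 0 1 - b.1 1 0)) := by
    intro b
    constructor
    · intro h
      by_cases hc : J * b = b * J
      · exact Or.inl hc
      refine Or.inr ⟨hc, ?_⟩
      have hnc : ¬ (b.1 0 0 + b.1 1 1) * (b.1 0 0 + b.1 1 1) + (b.1 0 1 - b.1 1 0) * (b.1 0 1 - b.1 1 0) = 1 := by
        intro h1
        have := det_eq b
        have h0 := conic_pos hirr (x := b.1 0 0 - b.1 1 1) (y := b.1 0 1 + b.1 1 0)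
          (by linear_combination h1 - 4 * this - h3)
        exact hc ((commute_companion_iff 0 b).2 ⟨by linear_combination h0.2, by linear_combination -h0.1⟩)
      have hyz : b.1 0 0 + b.1 1 1 = 0 ∨ b.1 0 1 - b.1 1 0 = 0 ∨
          (InThree (b.1 0 0 + b.1 1 1) ∧ InThree (b.1 0 1 - b.1 1 0)) := by
        rcases soluble_cases h with ⟨w, hw0, ⟨μ, hμ⟩, -⟩ | h | h | ⟨-, h | h⟩
        · exact absurd (companion_irreducible hirr hμ) hw0
        · exact absurd h hc
        · rcases h with ⟨-, h⟩ | ⟨-, h⟩ | ⟨h, -⟩
          · exact Or.inl (by rwa [trace_fin_two] at h)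
          · exact Or.inr (Or.inl (by rwa [hJb] at h))
          · exact Or.inl (by rwa [trace_fin_two] at h)
        · exact absurd h hsq
        · refine Or.inr (Or.inr ⟨?_, ?_⟩)
          · have hy := h b (Subgroup.subset_closure (Or.inr rfl))
            rw [trace_cube, trace_fin_two] at hy
            exact inThree_cube hy
          · have hz := h (J * b) (mul_mem (Subgroup.subset_closure (Or.inl rfl)) (Subgroup.subset_closure (Or.inr rfl)))
            rw [trace_cube, hJb] at hz
            exact inThree_cube hz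
      simp only [T, hpm]
      generalize b.1 0 0 + b.1 1 1 = y, b.1 0 1 - b.1 1 0 = z at hnc hyz ⊢
      by_cases hy : y = 0
      · exact Or.inl (Or.inl ⟨hy, fun h' => hnc (by rw [hy]; linear_combination h')⟩)
      by_cases hz : z = 0
      · refine Or.inl (Or.inr ⟨hz, fun h' => ?_⟩)
        rcases Finset.mem_insert.1 h' with h'' | h''
        · exact hy h''
        · exact hnc (by rw [hz]; linear_combination (hpm y).1 h'')
      rcases hyz with h' | h' | ⟨hy', hz'⟩
      · exact absurd h' hy
      · exact absurd h' hz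
      · refine Or.inr ⟨?_, ?_⟩ <;> rw [← hpm] <;> simp only [Finset.mem_insert, Finset.mem_singleton]
        · exact hy'.resolve_left hy
        · exact hz'.resolve_left hz
    · rintro (h | ⟨-, h⟩)
      · exact sol_commute h
      rcases h with (⟨h, -⟩ | ⟨h, -⟩) | ⟨hy, hz⟩
      · exact sol_twoZero (Or.inl ⟨hJt, by rw [trace_fin_two]; exact h⟩)
      · exact sol_twoZero (Or.inr (Or.inl ⟨hJt, by rw [hJb]; exact h⟩))
      have hy1 := (hpm _).1 hy
      have hz1 := (hpm _).1 hz
      simp only at hy1 hz1
      have inT : ∀ x : F, x * x = 1 → InThree x := fun x hx => Or.inr (mul_self_eq_one_iff.1 hx)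
      have hyT := inT _ hy1
      have hzT := inT _ hz1
      have hJT : ∀ i j, InThree ((J : M2) i j) := by
        intro i j
        fin_cases i <;> fin_cases j <;> simp [hJ, companion, mk2, InThree]
      have inv2 : ∀ x : F, InThree (2 * x) → InThree x := by
        intro x hx
        have := inThree_neg hx
        rwa [show -(2 * x) = x by linear_combination -x * h3] at this
      have hd := det_eq b
      set u := b.1 0 0 - b.1 1 1 with hu
      set v := b.1 0 1 + b.1 1 0 with hv
      have huv : u * u + v * v = 1 := by linear_combination hy1 + hz1 - 4 * hd - h3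
      by_cases hu1 : u = -1
      · have hv0 : v = 0 := by
          have : v * v = 0 := by rw [hu1] at huv; linear_combination huv
          exact (mul_eq_zero.1 this).elim id id
        refine sol_inThree hJT fun i j => inv2 _ ?_
        fin_cases i <;> fin_cases j
        · have := inThree_add hyT (inThree_neg (inT 1 (one_mul 1)))
          convert this using 1
          show 2 * b.1 0 0 = _
          linear_combination hu1
        · convert hzT using 1
          show 2 * b.1 0 1 = _
          linear_combination hv0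
        · convert inThree_neg hzT using 1
          show 2 * b.1 1 0 = _
          linear_combination hv0
        · have := inThree_add hyT (inT 1 (one_mul 1))
          convert this using 1
          show 2 * b.1 1 1 = _
          linear_combination -hu1
      · set k : GL (Fin 2) F := Matrix.GeneralLinearGroup.mkOfDetNeZero !![1 + u, -v; v, 1 + u] (by
          rw [det_fin_two_of]
          intro h
          have : (2 : F) * (1 + u) = 0 := by linear_combination h - huv
          exact hu1 (eq_neg_of_add_eq_zero_right ((mul_eq_zero.1 this).resolve_left h2))) with hk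
        have hkv : (k : M2) = !![1 + u, -v; v, 1 + u] := rfl
        set y := b.1 0 0 + b.1 1 1 with hy'
        set z := b.1 0 1 - b.1 1 0 with hz'
        set b' : SL2 := mk2 (-(y + 1)) (-z) z (-(y - 1)) (by linear_combination hy1 + hz1)
        have conj_of : ∀ c c' : SL2, (c : M2) * (k : M2) = (k : M2) * (c' : M2) → conjEquiv k c = c' := by
          intro c c' h
          refine Subtype.ext ?_
          rw [conjEquiv_coe, mul_assoc, h, ← mul_assoc, ← Units.val_mul, inv_mul_cancel, Units.val_one, one_mul]
        rw [← sol_map (conjEquiv k), conj_of J J ?_, conj_of b b' ?_]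
        · refine sol_inThree hJT fun i j => ?_
          fin_cases i <;> fin_cases j
          · exact inThree_neg (inThree_add hyT (inT 1 (one_mul 1)))
          · exact inThree_neg hzT
          · exact hzT
          · show InThree (-(y - 1))
            rw [sub_eq_add_neg]
            exact inThree_neg (inThree_add hyT (inThree_neg (inT 1 (one_mul 1))))
        · rw [hkv, mk2_coe]
          ext i j
          fin_cases i <;> fin_cases j <;> simp [Matrix.mul_apply, Fin.sum_univ_two, hu, hv, hy', hz']
          · linear_combination (b.1 0 0 * (1 + u) + b.1 0 1 * v) * h3 - huv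
          · linear_combination (-b.1 0 0 * v + b.1 0 1 * (1 + u)) * h3
          · linear_combination (b.1 1 0 * (1 + u) + b.1 1 1 * v) * h3
          · linear_combination (-b.1 1 0 * v + b.1 1 1 * (1 + u)) * h3 + huv
        · rw [hkv, hJ, companion, mk2_coe]
          ext i j
          fin_cases i <;> fin_cases j <;> simp [Matrix.mul_apply, Fin.sum_univ_two]
  have hd : Disjoint (fun b : SL2 => J * b = b * J)
      (fun b : SL2 => ¬ J * b = b * J ∧ T (b.1 0 0 + b.1 1 1, b.1 0 1 - b.1 1 0)) := by
    rw [Pi.disjoint_iff]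
    intro b
    rw [Prop.disjoint_iff]
    tauto
  rw [Nat.card_congr (Equiv.subtypeEquivRight hiff), Nat.card_congr (subtypeOrEquiv _ _ hd), Nat.card_sum,
    hJ, card_commute_companion, card_conic_one hirr, ← hJ]
  have hTc : ∀ p : F × F, T p → p.1 * p.1 + p.2 * p.2 - 1 ≠ 0 := by
    rintro ⟨y, z⟩ h h0
    rcases h with (⟨hy, hz⟩ | ⟨hz, hy⟩) | ⟨hy, hz⟩
    · simp only at hy h0 hz
      exact hz ((hpm z).2 (by rw [hy] at h0; linear_combination h0))
    · simp only at hy h0 hz
      exact hy (Finset.mem_insert_of_mem ((hpm y).2 (by rw [hz] at h0; linear_combination h0)))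
    · have hy' := (hpm _).1 hy
      have hz' := (hpm _).1 hz
      exact one_ne_zero (show (1 : F) = 0 by linear_combination h0 - hy' - hz')
  have e : {b : SL2 // ¬ J * b = b * J ∧ T (b.1 0 0 + b.1 1 1, b.1 0 1 - b.1 1 0)} ≃
      Σ p : {p : F × F // T p}, Conic (0 : F) (p.1.1 * p.1.1 + p.1.2 * p.1.2 - 1) :=
    { toFun := fun b => ⟨⟨(b.1.1 0 0 + b.1.1 1 1, b.1.1 0 1 - b.1.1 1 0), b.2.2⟩,
        ⟨(b.1.1 0 0 - b.1.1 1 1, b.1.1 0 1 + b.1.1 1 0), by
          have := det_eq b.1
          linear_combination -4 * this - h3⟩⟩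
      invFun := fun s => ⟨mk2 (-(s.1.1.1 + s.2.1.1)) (-(s.2.1.2 + s.1.1.2)) (-(s.2.1.2 - s.1.1.2))
          (-(s.1.1.1 - s.2.1.1)) (by linear_combination -s.2.2), by
        refine ⟨fun hc => ?_, ?_⟩
        · obtain ⟨e1, e2⟩ := (commute_companion_iff 0 _).1 hc
          simp [mk2] at e1 e2
          have hu0 : (s.2.1.1 : F) = 0 := by linear_combination -e2 + s.2.1.1 * h3
          have hv0 : (s.2.1.2 : F) = 0 := by linear_combination e1 + s.2.1.2 * h3
          refine hTc _ s.1.2 ?_
          have := s.2.2
          rw [hu0, hv0] at this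
          linear_combination -this
        · convert s.1.2 using 1
          simp [mk2]
          refine Prod.ext ?_ ?_ <;> simp only
          · linear_combination -s.1.1.1 * h3
          · linear_combination -s.1.1.2 * h3⟩
      left_inv := fun b => Subtype.ext (sl_ext4 (by simp [mk2]; linear_combination -b.1.1 0 0 * h3)
        (by simp [mk2]; linear_combination -b.1.1 0 1 * h3) (by simp [mk2]; linear_combination -b.1.1 1 0 * h3)
        (by simp [mk2]; linear_combination -b.1.1 1 1 * h3))
      right_inv := fun s => by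
        obtain ⟨⟨⟨y, z⟩, hT⟩, ⟨⟨u, v⟩, huv⟩⟩ := s
        have e1 : -(y + u) + -(y - u) = y := by linear_combination -y * h3
        have e2 : -(v + z) - -(v - z) = z := by linear_combination -z * h3
        have e3 : -(y + u) - -(y - u) = u := by linear_combination -u * h3
        have e4 : -(v + z) + -(v - z) = v := by linear_combination -v * h3
        refine Sigma.subtype_ext (Subtype.ext (Prod.ext ?_ ?_)) (Prod.ext ?_ ?_) <;> simp [mk2]
        · linear_combination e1
        · linear_combination e2
        · linear_combination e3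
        · linear_combination e4 }
  haveI := Fintype.ofFinite {p : F × F // T p}
  have hcT : Nat.card {p : F × F // T p} = 2 * Nat.card F - 1 := by
    have d1 : Disjoint (fun p : F × F => (p.1 = 0 ∧ p.2 ∉ ({1, -1} : Finset F)) ∨
        (p.2 = 0 ∧ p.1 ∉ ({0, 1, -1} : Finset F)))
        (fun p : F × F => p.1 ∈ ({1, -1} : Finset F) ∧ p.2 ∈ ({1, -1} : Finset F)) := by
      rw [Pi.disjoint_iff]
      intro p
      rw [Prop.disjoint_iff]
      rintro ⟨⟨h, -⟩ | ⟨h, -⟩, hy, hz⟩
      · have := (hpm _).1 hy; rw [h] at this; simp at this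
      · have := (hpm _).1 hz; rw [h] at this; simp at this
    have d2 : Disjoint (fun p : F × F => p.1 = 0 ∧ p.2 ∉ ({1, -1} : Finset F))
        (fun p : F × F => p.2 = 0 ∧ p.1 ∉ ({0, 1, -1} : Finset F)) := by
      rw [Pi.disjoint_iff]
      intro p
      rw [Prop.disjoint_iff]
      rintro ⟨⟨h, -⟩, -, h'⟩
      exact h' (by simp [h])
    rw [Nat.card_congr (subtypeOrEquiv _ _ d1), Nat.card_sum, Nat.card_congr (subtypeOrEquiv _ _ d2),
      Nat.card_sum]
    haveI := Fintype.ofFinite F
    have c1 : Nat.card {p : F × F // p.1 = 0 ∧ p.2 ∉ ({1, -1} : Finset F)} = Nat.card F - 2 := by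
      have e1 : {p : F × F // p.1 = 0 ∧ p.2 ∉ ({1, -1} : Finset F)} ≃ {z : F // z ∉ ({1, -1} : Finset F)} :=
        { toFun := fun p => ⟨p.1.2, p.2.2⟩
          invFun := fun z => ⟨((0 : F), z.1), rfl, z.2⟩
          left_inv := fun p => Subtype.ext (Prod.ext p.2.1.symm rfl)
          right_inv := fun z => rfl }
      rw [Nat.card_congr e1,
        Nat.card_eq_fintype_card, Fintype.card_subtype_compl, Fintype.card_coe,
        Finset.card_pair (fun h => h2 (by linear_combination h)), Nat.card_eq_fintype_card]
    have c2 : Nat.card {p : F × F // p.2 = 0 ∧ p.1 ∉ ({0, 1, -1} : Finset F)} = Nat.card F - 3 := by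
      have e1 : {p : F × F // p.2 = 0 ∧ p.1 ∉ ({0, 1, -1} : Finset F)} ≃ {z : F // z ∉ ({0, 1, -1} : Finset F)} :=
        { toFun := fun p => ⟨p.1.1, p.2.2⟩
          invFun := fun z => ⟨(z.1, (0 : F)), rfl, z.2⟩
          left_inv := fun p => Subtype.ext (Prod.ext rfl p.2.1.symm)
          right_inv := fun z => rfl }
      rw [Nat.card_congr e1,
        Nat.card_eq_fintype_card, Fintype.card_subtype_compl, Fintype.card_coe,
        Finset.card_insert_of_notMem (by simp),
        Finset.card_pair (fun h => h2 (by linear_combination h)), Nat.card_eq_fintype_card]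
    have c3 : Nat.card {p : F × F // p.1 ∈ ({1, -1} : Finset F) ∧ p.2 ∈ ({1, -1} : Finset F)} = 4 := by
      rw [Nat.card_congr (Equiv.subtypeProdEquivProd (p := fun x => x ∈ ({1, -1} : Finset F))
        (q := fun x => x ∈ ({1, -1} : Finset F))), Nat.card_prod, Nat.card_eq_finsetCard,
        Finset.card_pair (fun h => h2 (by linear_combination h))]
    rw [c1, c2, c3]
    have hq : 3 ≤ Nat.card F := by
      have := card_inThree (F := F)
      exact this ▸ Finite.card_subtype_le _
    omega
  rw [Nat.card_congr e, Nat.card_sigma]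
  have hc : ∀ p : {p : F × F // T p}, Nat.card (Conic (0 : F) (p.1.1 * p.1.1 + p.1.2 * p.1.2 - 1)) =
      Nat.card F + 1 := fun p =>
    card_conic hirr (hTc _ p.2) (nonempty_conic h2 (by
      intro h
      exact one_ne_zero (show (1 : F) = 0 by linear_combination -h - h3)) _).some
  rw [Finset.sum_congr rfl fun p _ => hc p, Finset.sum_const, Finset.card_univ, smul_eq_mul,
    ← Nat.card_eq_fintype_card, hcT]
  obtain ⟨k, hk⟩ := Nat.exists_eq_add_of_le (Nat.card_pos : 0 < Nat.card F)
  rw [hk, show 2 * (Nat.succ 0 + k) - 1 = 2 * k + 1 by omega]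
  ring

end Three

end CfsgLib.Classical.Solubilizer
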