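import Cfsg.Agent.Lib.Classical.Solubilizer.Transfer

/-!
# Sizes of solubilizers in `SL₂`: semisimple elements
-/

set_option autoImplicit false
set_option linter.unusedSectionVars false
set_option linter.unusedSimpArgs false
set_option linter.style.haveILetI false

open Matrix
open scoped MatrixGroups

namespace CfsgLib.Classical.Solubilizer

variable {F : Type*} [Field F] [Finite F]

local notation "M2" => Matrix (Fin 2) (Fin 2) F
local notation "SL2" => Matrix.SpecialLinearGroup (Fin 2) F

/-- The form `x² + txy + y²` takes the value `c`. -/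
def Conic (t c : F) : Type _ := {p : F × F // p.1 * p.1 + t * p.1 * p.2 + p.2 * p.2 = c}

instance (t c : F) : Finite (Conic t c) := Subtype.finite

theorem conic_pos {t : F} (hirr : ∀ x : F, x * x + t * x + 1 ≠ 0) {x y : F}
    (h : x * x + t * x * y + y * y = 0) : x = 0 ∧ y = 0 := by
  by_cases hy : y = 0
  · subst hy
    exact ⟨by simpa using h, rfl⟩
  · exfalso
    refine hirr (x / y) ?_
    field_simp
    linear_combination h

theorem card_conic_one {t : F} (hirr : ∀ x : F, x * x + t * x + 1 ≠ 0) :
    Nat.card (Conic t 1) = Nat.card F + 1 := by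
  have hN : ∀ m : F, m * m + t * m + 1 ≠ 0 := hirr
  let f : Option F → Conic t 1 := fun o => match o with
    | none => ⟨(-1, 0), by ring⟩
    | some m => ⟨(1 - (2 * m + t) * m / (m * m + t * m + 1), -(2 * m + t) / (m * m + t * m + 1)), by
        dsimp only
        have hD := hN m
        generalize hd : m * m + t * m + 1 = D at hD ⊢
        field_simp
        subst hd
        ring⟩
  have hinj : Function.Injective f := by
    rintro (_ | m) (_ | n) h
    · rfl
    · exfalso
      have h1 := congrArg (fun p : Conic t 1 => p.1.1) h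
      have h2 := congrArg (fun p : Conic t 1 => p.1.2) h
      simp only [f] at h1 h2
      have h3 : 2 * n + t = 0 := neg_eq_zero.1 ((div_eq_zero_iff.1 h2.symm).resolve_right (hN n))
      rw [h3] at h1
      simp at h1
      have h4 : (2 : F) = 0 := by linear_combination -h1
      have h5 : t = 0 := by linear_combination h3 - n * h4
      exact hN 1 (by linear_combination h4 + h5)
    · exfalso
      have h1 := congrArg (fun p : Conic t 1 => p.1.1) h
      have h2 := congrArg (fun p : Conic t 1 => p.1.2) h
      simp only [f] at h1 h2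
      have h3 : 2 * m + t = 0 := neg_eq_zero.1 ((div_eq_zero_iff.1 h2).resolve_right (hN m))
      rw [h3] at h1
      simp at h1
      have h4 : (2 : F) = 0 := by linear_combination h1
      have h5 : t = 0 := by linear_combination h3 - m * h4
      exact hN 1 (by linear_combination h4 + h5)
    · have h1 := congrArg (fun p : Conic t 1 => p.1.1) h
      have h2 := congrArg (fun p : Conic t 1 => p.1.2) h
      simp only [f] at h1 h2
      rw [sub_right_inj, div_eq_div_iff (hN m) (hN n)] at h1
      rw [div_eq_div_iff (hN m) (hN n)] at h2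
      congr 1
      have e : (2 * m + t) * (m - n) = 0 := by
        have := hN n
        have e1 : (2 * m + t) * (n * n + t * n + 1) = (2 * n + t) * (m * m + t * m + 1) := by
          linear_combination -h2
        have e2 : ((2 * m + t) * m) * (n * n + t * n + 1) = ((2 * n + t) * n) * (m * m + t * m + 1) := by
          linear_combination h1
        have : ((2 * m + t) * (m - n)) * (n * n + t * n + 1) = 0 := by linear_combination e2 - n * e1
        exact (mul_eq_zero.1 this).resolve_right (hN n)
      rcases mul_eq_zero.1 e with hm | hm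
      · have hn : 2 * n + t = 0 := by
          have e1 : (2 * n + t) * (m * m + t * m + 1) = 0 := by
            linear_combination h2 + (n * n + t * n + 1) * hm
          exact (mul_eq_zero.1 e1).resolve_right (hN m)
        have h20 : (2 : F) ≠ 0 := fun h4 => hN 1 (by
          have h5 : t = 0 := by linear_combination hm - m * h4
          linear_combination h4 + h5)
        have : (2 : F) * (m - n) = 0 := by linear_combination hm - hn
        exact sub_eq_zero.1 ((mul_eq_zero.1 this).resolve_left h20)
      · exact sub_eq_zero.1 hm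
  have hsurj : Function.Surjective f := by
    rintro ⟨⟨x, y⟩, h⟩
    simp only at h
    by_cases hy : y = 0
    · subst hy
      have : (x - 1) * (x + 1) = 0 := by linear_combination h
      rcases mul_eq_zero.1 this with hx | hx
      · by_cases h2 : (2 : F) = 0
        · refine ⟨none, Subtype.ext (Prod.ext ?_ rfl)⟩
          show (-1 : F) = x
          linear_combination -hx - h2
        · have hs : 2 * (-t / 2) + t = 0 := by field_simp; ring
          refine ⟨some (-t / 2), Subtype.ext (Prod.ext ?_ ?_)⟩
          · show 1 - (2 * (-t / 2) + t) * (-t / 2) / _ = x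
            rw [hs, zero_mul, zero_div, sub_zero]
            linear_combination -hx
          · show -(2 * (-t / 2) + t) / _ = (0 : F)
            rw [hs, neg_zero, zero_div]
      · exact ⟨none, Subtype.ext (Prod.ext (eq_neg_of_add_eq_zero_left hx).symm rfl)⟩
    · set m := (x - 1) / y with hm
      have hxm : x = 1 + m * y := by rw [hm]; field_simp; ring
      have key : -(2 * m + t) / (m * m + t * m + 1) = y := by
        rw [div_eq_iff (hN m)]
        have : y * (y * (m * m + t * m + 1) + (2 * m + t)) = 0 := by
          rw [hxm] at h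
          linear_combination h
        linear_combination -((mul_eq_zero.1 this).resolve_left hy)
      refine ⟨some m, Subtype.ext (Prod.ext ?_ key)⟩
      show 1 - (2 * m + t) * m / (m * m + t * m + 1) = x
      rw [hxm, ← key]
      ring
  rw [← Nat.card_congr (Equiv.ofBijective f ⟨hinj, hsurj⟩), Finite.card_option]

/-- Translation of the unit conic by one of the solutions. -/
theorem card_conic {t c : F} (hirr : ∀ x : F, x * x + t * x + 1 ≠ 0) (hc : c ≠ 0) (z : Conic t c) :
    Nat.card (Conic t c) = Nat.card F + 1 := by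
  obtain ⟨⟨a, b⟩, hz⟩ := z
  simp only at hz
  refine (Nat.card_congr ?_).symm.trans (card_conic_one hirr)
  exact
    { toFun := fun p => ⟨(p.1.1 * a - p.1.2 * b, p.1.1 * b + p.1.2 * a + t * p.1.2 * b), by
        have := p.2
        linear_combination (a * a + t * a * b + b * b) * this + hz⟩
      invFun := fun p => ⟨((p.1.1 * (a + t * b) + p.1.2 * b) / c, (p.1.2 * a - p.1.1 * b) / c), by
        have := p.2
        field_simp
        linear_combination (a * a + t * a * b + b * b) * this + c * hz⟩
      left_inv := fun p => Subtype.ext (Prod.ext (by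
        simp only
        field_simp
        linear_combination p.1.1 * hz) (by
        simp only
        field_simp
        linear_combination p.1.2 * hz))
      right_inv := fun p => Subtype.ext (Prod.ext (by
        simp only
        field_simp
        linear_combination p.1.1 * hz) (by
        simp only
        field_simp
        linear_combination p.1.2 * hz)) }

theorem nonempty_conic (h2 : (2 : F) ≠ 0) {t : F} (ht : t * t ≠ 4) (c : F) : Nonempty (Conic t c) := by
  classical
  haveI := Fintype.ofFinite F
  obtain ⟨x, y, hxy⟩ := FiniteField.exists_root_sum_quadratic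
    (f := (Polynomial.X ^ 2 : Polynomial F)) (g := Polynomial.C (4 - t * t) * Polynomial.X ^ 2 - Polynomial.C (4 * c))
    (Polynomial.degree_X_pow 2)
    (by
      rw [Polynomial.degree_sub_eq_left_of_degree_lt]
      · rw [Polynomial.degree_C_mul_X_pow 2 (sub_ne_zero.2 (fun h => ht h.symm))]; rfl
      · rw [Polynomial.degree_C_mul_X_pow 2 (sub_ne_zero.2 (fun h => ht h.symm))]
        exact lt_of_le_of_lt Polynomial.degree_C_le (by decide))
    (by
      rw [← Nat.odd_iff, ← Nat.not_even_iff_odd]
      intro he
      have := FiniteField.even_card_iff_char_two.2 (Nat.even_iff.1 he)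
      haveI : CharP F 2 := by rw [← this]; exact ringChar.charP F
      exact h2 (CharP.cast_eq_zero F 2))
  simp only [Polynomial.eval_pow, Polynomial.eval_X, Polynomial.eval_mul, Polynomial.eval_C,
    Polynomial.eval_sub] at hxy
  refine ⟨⟨((x - t * y) / 2, y), ?_⟩⟩
  field_simp
  linear_combination hxy

/-- No solubilizer exceptions: `a` is semisimple and outside the tetrahedral configuration. -/
structure Generic (a : SL2) : Prop where
  t0 : (a : M2).trace ≠ 0
  t4 : (a : M2).trace ^ 2 ≠ 4
  exc : (2 : F) = 0 ∨ (¬ IsSquare (2 : F) ∧ ((a ^ 3 : SL2) : M2).trace ≠ 0 ∧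
    ((a ^ 3 : SL2) : M2).trace ≠ 2 ∧ ((a ^ 3 : SL2) : M2).trace ≠ -2)

theorem generic_cases {a b : SL2} (hg : Generic a) (h : Sol a b) :
    CommonEigen a b ∨ a * b = b * a ∨ ((b : M2).trace = 0 ∧ ((a * b : SL2) : M2).trace = 0) := by
  rcases soluble_cases h with h | h | h | ⟨h2, h⟩
  · exact Or.inl h
  · exact Or.inr (Or.inl h)
  · rcases h with ⟨h, -⟩ | ⟨h, -⟩ | h
    · exact absurd h hg.t0
    · exact absurd h hg.t0
    · exact Or.inr (Or.inr h)
  · obtain ⟨hs, e0, e2, e2'⟩ := hg.exc.resolve_left h2
    rcases h with h | h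
    · exact absurd h hs
    · rcases h a (Subgroup.subset_closure (Or.inl rfl)) with h | h | h
      · exact absurd h e0
      · exact absurd h e2
      · exact absurd h e2'

theorem card_upper : Nat.card {b : SL2 // b.1 1 0 = 0} = (Nat.card F - 1) * Nat.card F := by
  rw [← Nat.card_units, ← Nat.card_prod]
  refine Nat.card_congr
    { toFun := fun b => (⟨b.1.1 0 0, b.1.1 1 1, by have := det_eq b.1; rw [b.2] at this; linear_combination this,
        by have := det_eq b.1; rw [b.2] at this; linear_combination this⟩, b.1.1 0 1)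
      invFun := fun p => ⟨mk2 (p.1 : F) p.2 0 ((p.1⁻¹ : Fˣ) : F) (by simp), by simp [mk2]⟩
      left_inv := fun b => Subtype.ext (sl_ext4 rfl rfl b.2.symm rfl)
      right_inv := fun p => by ext <;> simp [mk2] }

/-- The diagonal element with eigenvalues `l, l⁻¹`. -/
def diag2 (l : Fˣ) : SL2 := mk2 (l : F) 0 0 ((l⁻¹ : Fˣ) : F) (by simp)

theorem card_sol_split (l : Fˣ) (hg : Generic (diag2 l)) :
    Nat.card {b : SL2 // Sol (diag2 l) b} = 2 * Nat.card F * (Nat.card F - 1) := by
  classical
  have hne : (l : F) - ((l⁻¹ : Fˣ) : F) ≠ 0 := by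
    intro h
    apply hg.t4
    rw [diag2, mk2_coe, trace_fin_two_of]
    have hl : (l : F) * ((l⁻¹ : Fˣ) : F) = 1 := by simp
    linear_combination ((l : F) - ((l⁻¹ : Fˣ) : F)) * h + 4 * hl
  have hiff : ∀ b : SL2, Sol (diag2 l) b ↔ b.1 1 0 = 0 ∨ (b.1 1 0 ≠ 0 ∧ b.1 0 1 = 0) ∨
      (b.1 1 0 ≠ 0 ∧ b.1 0 0 = 0 ∧ b.1 1 1 = 0) := by
    intro b
    constructor
    · intro h
      by_cases h10 : b.1 1 0 = 0
      · exact Or.inl h10
      refine Or.inr ?_
      rcases generic_cases hg h with h | h | ⟨h1, h2⟩
      · obtain ⟨w, hw0, ⟨μ, hμ⟩, ν, hν⟩ := h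
        have a0 := congrFun hμ 0
        have a1 := congrFun hμ 1
        simp [diag2, mk2, Matrix.mulVec, dotProduct, Fin.sum_univ_two] at a0 a1
        have b0 := congrFun hν 0
        have b1 := congrFun hν 1
        simp [Matrix.mulVec, dotProduct, Fin.sum_univ_two] at b0 b1
        by_cases h0 : w 0 = 0
        · have hw1 : w 1 ≠ 0 := fun h => hw0 (funext fun i => by fin_cases i <;> simp [h0, h])
          rw [h0, mul_zero, zero_add, mul_zero] at b0
          exact Or.inl ⟨h10, (mul_eq_zero.1 b0).resolve_right hw1⟩
        · exfalso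
          have hμ : μ = l := by
            rcases a0 with h | h
            · exact h.symm
            · exact absurd h h0
          have hw1 : w 1 = 0 := by
            rcases a1 with h | h
            · exfalso
              apply hne
              rw [Units.val_inv_eq_inv_val, h, hμ, sub_self]
            · exact h
          rw [hw1, mul_zero, add_zero, mul_zero] at b1
          exact h10 ((mul_eq_zero.1 b1).resolve_right h0)
      · exfalso
        have := congrFun (congrFun (show ((diag2 l : SL2) : M2) * (b : M2) = (b : M2) * ((diag2 l : SL2) : M2) from congrArg Subtype.val h) 1) 0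
        simp [diag2, mk2, Matrix.mul_apply, Fin.sum_univ_two] at this
        rcases mul_eq_zero.1 (show b.1 1 0 * ((l : F) - ((l⁻¹ : Fˣ) : F)) = 0 by
          rw [Units.val_inv_eq_inv_val]; linear_combination -this) with h | h
        · exact h10 h
        · exact hne h
      · refine Or.inr ⟨h10, ?_⟩
        rw [coe_mul', diag2, mk2_coe, trace_fin_two] at h2
        simp [Matrix.mul_apply, Fin.sum_univ_two] at h2
        rw [trace_fin_two] at h1
        have h00 : b.1 0 0 = 0 := by
          have : b.1 0 0 * ((l : F) - ((l⁻¹ : Fˣ) : F)) = 0 := by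
            rw [Units.val_inv_eq_inv_val]
            linear_combination h2 - (l : F)⁻¹ * h1
          exact (mul_eq_zero.1 this).resolve_right hne
        exact ⟨h00, by linear_combination h1 - h00⟩
    · rintro (h | ⟨-, h⟩ | ⟨-, h0, h1⟩)
      · exact sol_upper (by simp [diag2, mk2]) h
      · exact sol_lower (by simp [diag2, mk2]) h
      · refine sol_twoZero (Or.inr (Or.inr ⟨by rw [trace_fin_two, h0, h1, add_zero], ?_⟩))
        rw [coe_mul', diag2, mk2_coe, trace_fin_two]
        simp [Matrix.mul_apply, Fin.sum_univ_two, h0, h1]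
  rw [Nat.card_congr (Equiv.subtypeEquivRight hiff)]
  have hd1 : Disjoint (fun b : SL2 => b.1 1 0 = 0)
      (fun b : SL2 => (b.1 1 0 ≠ 0 ∧ b.1 0 1 = 0) ∨ (b.1 1 0 ≠ 0 ∧ b.1 0 0 = 0 ∧ b.1 1 1 = 0)) := by
    rw [Pi.disjoint_iff]
    intro b
    rw [Prop.disjoint_iff]
    tauto
  have hd2 : Disjoint (fun b : SL2 => b.1 1 0 ≠ 0 ∧ b.1 0 1 = 0)
      (fun b : SL2 => b.1 1 0 ≠ 0 ∧ b.1 0 0 = 0 ∧ b.1 1 1 = 0) := by
    rw [Pi.disjoint_iff]
    intro b
    rw [Prop.disjoint_iff]
    rintro ⟨⟨-, h⟩, -, h0, -⟩
    have := det_eq b
    rw [h0, h] at this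
    simp at this
  rw [Nat.card_congr (subtypeOrEquiv _ _ hd1), Nat.card_sum, Nat.card_congr (subtypeOrEquiv _ _ hd2),
    Nat.card_sum, card_upper]
  have c2 : Nat.card {b : SL2 // b.1 1 0 ≠ 0 ∧ b.1 0 1 = 0} = (Nat.card F - 1) * (Nat.card F - 1) := by
    rw [← Nat.card_units, ← Nat.card_prod]
    exact Nat.card_congr
      { toFun := fun b => (⟨b.1.1 0 0, b.1.1 1 1, by have := det_eq b.1; rw [b.2.2] at this; linear_combination this,
          by have := det_eq b.1; rw [b.2.2] at this; linear_combination this⟩, Units.mk0 _ b.2.1)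
        invFun := fun p => ⟨mk2 (p.1 : F) 0 (p.2 : F) ((p.1⁻¹ : Fˣ) : F) (by simp), by simp [mk2]⟩
        left_inv := fun b => Subtype.ext (sl_ext4 rfl b.2.2.symm rfl rfl)
        right_inv := fun p => by ext <;> simp [mk2] }
  have c3 : Nat.card {b : SL2 // b.1 1 0 ≠ 0 ∧ b.1 0 0 = 0 ∧ b.1 1 1 = 0} = Nat.card F - 1 := by
    rw [← Nat.card_units]
    exact Nat.card_congr
      { toFun := fun b => Units.mk0 _ b.2.1
        invFun := fun p => ⟨mk2 0 (-((p⁻¹ : Fˣ) : F)) (p : F) 0 (by simp), by simp [mk2]⟩
        left_inv := fun b => Subtype.ext (sl_ext4 b.2.2.1.symm (by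
            have := det_eq b.1
            rw [b.2.2.1] at this
            simp [mk2]
            field_simp [b.2.1]
            linear_combination this) rfl b.2.2.2.symm)
        right_inv := fun p => by ext; simp [mk2] }
  rw [c2, c3]
  obtain ⟨k, hk⟩ := Nat.exists_eq_add_of_le (Nat.card_pos : 0 < Nat.card F)
  rw [hk, Nat.add_sub_cancel_left]
  ring

theorem companion_irreducible {t : F} (hirr : ∀ x : F, x * x + t * x + 1 ≠ 0) {w : Fin 2 → F} {μ : F}
    (h : ((companion t : SL2) : M2) *ᵥ w = μ • w) : w = 0 := by
  have a0 := congrFun h 0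
  have a1 := congrFun h 1
  simp [companion, mk2, Matrix.mulVec, dotProduct, Fin.sum_univ_two] at a0 a1
  have e : ((-μ) * (-μ) + t * (-μ) + 1) * w 0 = 0 := by linear_combination (t - μ) * a0 + a1
  have h0 : w 0 = 0 := (mul_eq_zero.1 e).resolve_left (hirr _)
  funext i
  fin_cases i
  · exact h0
  · show w 1 = 0
    linear_combination -a0 - μ * h0

theorem commute_companion_iff (t : F) (b : SL2) :
    companion t * b = b * companion t ↔ b.1 0 1 = -b.1 1 0 ∧ b.1 1 1 = b.1 0 0 + t * b.1 1 0 := by
  constructor
  · intro h
    have h' : ((companion t : SL2) : M2) * (b : M2) = (b : M2) * ((companion t : SL2) : M2) := congrArg Subtype.val h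
    have e0 := congrFun (congrFun h' 0) 0
    have e1 := congrFun (congrFun h' 1) 0
    simp [companion, mk2, Matrix.mul_apply, Fin.sum_univ_two] at e0 e1
    exact ⟨by linear_combination -e0, by linear_combination -e1⟩
  · rintro ⟨h1, h2⟩
    refine Subtype.ext ?_
    show !![(0 : F), -1; 1, t] * (b : M2) = (b : M2) * !![(0 : F), -1; 1, t]
    ext i j
    fin_cases i <;> fin_cases j <;> simp [Matrix.mul_apply, Fin.sum_univ_two, h1, h2] <;> ring

theorem card_commute_companion {t : F} :
    Nat.card {b : SL2 // companion t * b = b * companion t} = Nat.card (Conic t (1 : F)) := by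
  refine Nat.card_congr
    { toFun := fun b => ⟨(b.1.1 0 0, b.1.1 1 0), by
        obtain ⟨h1, h2⟩ := (commute_companion_iff t b.1).1 b.2
        have := det_eq b.1
        rw [h1, h2] at this
        linear_combination this⟩
      invFun := fun p => ⟨mk2 p.1.1 (-p.1.2) p.1.2 (p.1.1 + t * p.1.2) (by linear_combination p.2),
        (commute_companion_iff t _).2 (by simp [mk2])⟩
      left_inv := fun b => Subtype.ext (sl_ext4 rfl ((commute_companion_iff t b.1).1 b.2).1.symm rfl
        ((commute_companion_iff t b.1).1 b.2).2.symm)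
      right_inv := fun p => rfl }

theorem card_sol_nonsplit {t : F} (hirr : ∀ x : F, x * x + t * x + 1 ≠ 0) (hg : Generic (companion t))
    (hne : Nonempty (Conic (-t) (-1 : F))) :
    Nat.card {b : SL2 // Sol (companion t) b} = 2 * (Nat.card F + 1) := by
  classical
  have hirr' : ∀ x : F, x * x + -t * x + 1 ≠ 0 := fun x h => hirr (-x) (by linear_combination h)
  have hiff : ∀ b : SL2, Sol (companion t) b ↔ companion t * b = b * companion t ∨
      ((b : M2).trace = 0 ∧ ((companion t * b : SL2) : M2).trace = 0) := by
    refine fun b => ⟨fun h => ?_, ?_⟩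
    · rcases generic_cases hg h with ⟨w, hw0, ⟨μ, hμ⟩, -⟩ | h | h
      · exact absurd (companion_irreducible hirr hμ) hw0
      · exact Or.inl h
      · exact Or.inr h
    · rintro (h | h)
      · exact sol_commute h
      · exact sol_twoZero (Or.inr (Or.inr h))
  have hd : Disjoint (fun b : SL2 => companion t * b = b * companion t)
      (fun b : SL2 => (b : M2).trace = 0 ∧ ((companion t * b : SL2) : M2).trace = 0) := by
    rw [Pi.disjoint_iff]
    intro b
    rw [Prop.disjoint_iff]
    rintro ⟨hc, h1, h2⟩
    obtain ⟨e1, e2⟩ := (commute_companion_iff t b).1 hc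
    have ht : (companion t : SL2).1.trace = t := by simp [companion, mk2, trace_fin_two]
    rw [trace_fin_two, e2] at h1
    rw [coe_mul', companion, mk2_coe, trace_fin_two] at h2
    simp [Matrix.mul_apply, Fin.sum_univ_two, e1, e2] at h2
    have hs : b.1 1 0 = 0 := by
      have : (t * t - 4) * b.1 1 0 = 0 := by linear_combination 2 * h2 - t * h1
      refine (mul_eq_zero.1 this).resolve_left (sub_ne_zero.2 ?_)
      have := hg.t4
      rw [ht, pow_two] at this
      exact this
    have hr : t * b.1 0 0 = 0 := by linear_combination h2 + (2 - t * t) * hs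
    have h00 : b.1 0 0 = 0 := (mul_eq_zero.1 hr).resolve_left (fun h => hg.t0 (by rw [ht, h]))
    have := det_eq b
    rw [h00, e1, hs] at this
    simp at this
  rw [Nat.card_congr (Equiv.subtypeEquivRight hiff), Nat.card_congr (subtypeOrEquiv _ _ hd), Nat.card_sum,
    card_commute_companion, card_conic_one hirr]
  have hc2 : Nat.card {b : SL2 // (b : M2).trace = 0 ∧ ((companion t * b : SL2) : M2).trace = 0} =
      Nat.card (Conic (-t) (-1 : F)) := by
    have key : ∀ b : SL2, ((b : M2).trace = 0 ∧ ((companion t * b : SL2) : M2).trace = 0) ↔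
        b.1 1 1 = -b.1 0 0 ∧ b.1 1 0 = b.1 0 1 - t * b.1 0 0 := by
      intro b
      rw [coe_mul', companion, mk2_coe, trace_fin_two, trace_fin_two]
      simp [Matrix.mul_apply, Fin.sum_univ_two]
      exact ⟨fun ⟨h1, h2⟩ => ⟨by linear_combination h1, by linear_combination -h2 + t * h1⟩,
        fun ⟨h1, h2⟩ => ⟨by linear_combination h1, by linear_combination t * h1 - h2⟩⟩
    exact Nat.card_congr
      { toFun := fun b => ⟨(b.1.1 0 0, b.1.1 0 1), by
          obtain ⟨h1, h2⟩ := (key b.1).1 b.2
          have := det_eq b.1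
          rw [h1, h2] at this
          linear_combination -this⟩
        invFun := fun p => ⟨mk2 p.1.1 p.1.2 (p.1.2 - t * p.1.1) (-p.1.1) (by linear_combination -p.2),
          (key _).2 (by simp [mk2])⟩
        left_inv := fun b => Subtype.ext (sl_ext4 rfl rfl ((key b.1).1 b.2).2.symm ((key b.1).1 b.2).1.symm)
        right_inv := fun p => rfl }
  rw [hc2, card_conic hirr' (neg_ne_zero.2 one_ne_zero) hne.some]
  ring

end CfsgLib.Classical.Solubilizer
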