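import Cfsg.Agent.Lib.Classical.Solubilizer.Counts

/-!
# Element orders and solubilizers of semisimple elements of `PSL₂`
-/

set_option autoImplicit false
set_option linter.unusedSectionVars false
set_option linter.unusedSimpArgs false
set_option linter.style.haveILetI false

open Matrix
open scoped MatrixGroups

namespace CfsgLib.Classical.Solubilizer

variable {F : Type*} [Field F] [Finite F]

local notation "M2" => Matrix (Fin 2) (Fin 2) F
local notation "SL2" => Matrix.SpecialLinearGroup (Fin 2) F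
local notation "PSL2" => Matrix.ProjectiveSpecialLinearGroup (Fin 2) F

theorem card_center_two (h2 : (2 : F) = 0) : Nat.card (Subgroup.center SL2) = 1 := by
  rw [Nat.card_eq_one_iff_unique]
  refine ⟨⟨fun x y => ?_⟩, ⟨1⟩⟩
  have one : ∀ z : Subgroup.center SL2, (z : SL2) = 1 := by
    intro z
    obtain ⟨r, hr, he⟩ := mem_center_scalar _ z.2
    have : (r - 1) * (r - 1) = 0 := by linear_combination hr - (r - 1) * h2
    refine Subtype.ext ?_
    rw [he, sub_eq_zero.1 ((mul_eq_zero.1 this).elim id id), one_smul]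
    rfl
  exact Subtype.ext ((one x).trans (one y).symm)

theorem card_center_odd (h2 : (2 : F) ≠ 0) : Nat.card (Subgroup.center SL2) = 2 := by
  rw [Nat.card_eq_two_iff]
  refine ⟨1, ⟨mk2 (-1) 0 0 (-1) (by ring), (center_iff _).2 ⟨-1, by rw [mk2_coe]; ext i j; fin_cases i <;> fin_cases j <;> simp⟩⟩, ?_, ?_⟩
  · intro h
    have := congrArg (fun z : Subgroup.center SL2 => (z : SL2).1 0 0) h
    simp [mk2] at this
    exact h2 (by linear_combination this)
  · refine Set.eq_univ_of_forall fun z => ?_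
    obtain ⟨r, hr, he⟩ := mem_center_scalar _ z.2
    have : (r - 1) * (r + 1) = 0 := by linear_combination hr
    rcases mul_eq_zero.1 this with h | h
    · refine Or.inl (Subtype.ext (Subtype.ext ?_))
      rw [he, sub_eq_zero.1 h, one_smul]
      rfl
    · refine Or.inr (Subtype.ext (Subtype.ext ?_))
      rw [he, eq_neg_of_add_eq_zero_left h]
      ext i j
      fin_cases i <;> fin_cases j <;> simp [mk2]

theorem proj_pow_eq_one {a : SL2} {n : ℕ} : (proj a : PSL2) ^ n = 1 ↔ ∃ r : F, ((a ^ n : SL2) : M2) = r • 1 := by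
  rw [← map_pow, proj_eq_one, center_iff]

theorem nonscalar_of_proj {a : SL2} (h : (proj a : PSL2) ≠ 1) : ∀ r : F, (a : M2) ≠ r • 1 :=
  fun r hr => h (proj_eq_one.2 ((center_iff a).2 ⟨r, hr⟩))

theorem scalar_combination {a : SL2} (ha : ∀ r : F, (a : M2) ≠ r • 1) {c d r : F}
    (h : c • (a : M2) + d • 1 = r • 1) : c = 0 := by
  by_contra hc
  refine ha ((r - d) / c) ?_
  rw [div_eq_inv_mul, mul_smul, sub_smul, ← h, add_sub_cancel_right, inv_smul_smul₀ hc]

theorem cube_eq (a : SL2) :
    ((a ^ 3 : SL2) : M2) = ((a : M2).trace ^ 2 - 1) • (a : M2) + (-(a : M2).trace) • 1 := by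
  have e : ((a ^ 3 : SL2) : M2) = (a : M2) * ((a : M2) * (a : M2)) := by
    rw [pow_succ', pow_two]; rfl
  rw [e, cayley _ a.2, mul_sub, mul_smul_comm, mul_one, cayley _ a.2]
  module

theorem trace_cube (a : SL2) :
    ((a ^ 3 : SL2) : M2).trace = (a : M2).trace ^ 3 - 3 * (a : M2).trace := by
  rw [cube_eq, Matrix.trace_add, Matrix.trace_smul, Matrix.trace_smul, trace_one, Fintype.card_fin,
    smul_eq_mul, smul_eq_mul]
  push_cast
  ring

theorem trace_eq_zero_iff {a : SL2} (ha : (proj a : PSL2) ≠ 1) :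
    (proj a : PSL2) ^ 2 = 1 ↔ (a : M2).trace = 0 := by
  have e : ((a ^ 2 : SL2) : M2) = (a : M2).trace • (a : M2) + (-1 : F) • 1 := by
    rw [pow_two, coe_mul', cayley _ a.2, neg_one_smul, sub_eq_add_neg]
  rw [proj_pow_eq_one]
  constructor
  · rintro ⟨r, hr⟩
    exact scalar_combination (nonscalar_of_proj ha) (e.symm.trans hr)
  · intro h
    exact ⟨-1, by rw [e, h, zero_smul, zero_add]⟩

theorem trace_sq_eq_one_iff {a : SL2} (ha : (proj a : PSL2) ≠ 1) :
    (proj a : PSL2) ^ 3 = 1 ↔ (a : M2).trace ^ 2 = 1 := by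
  rw [proj_pow_eq_one]
  constructor
  · rintro ⟨r, hr⟩
    exact sub_eq_zero.1 (scalar_combination (nonscalar_of_proj ha) ((cube_eq a).symm.trans hr))
  · intro h
    exact ⟨-(a : M2).trace, by rw [cube_eq, h, sub_self, zero_smul, zero_add]⟩

/-- The diagonal subgroup. -/
def diagHom : Fˣ →* SL2 where
  toFun := diag2
  map_one' := Subtype.ext (by rw [diag2, mk2_coe]; ext i j; fin_cases i <;> fin_cases j <;> simp)
  map_mul' l m := Subtype.ext (by
    show _ = ((diag2 l : SL2) : M2) * ((diag2 m : SL2) : M2)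
    rw [diag2, diag2, diag2, mk2_coe, mk2_coe, mk2_coe]
    ext i j
    fin_cases i <;> fin_cases j <;> simp [Matrix.mul_apply, Fin.sum_univ_two, mul_comm])

theorem pow_unipotent (p : ℕ) [Fact p.Prime] [CharP F p] {a : SL2} {c : F}
    (h : (a : M2).trace = 2 * c) (hc : c * c = 1) : ∃ r : F, ((a ^ p : SL2) : M2) = r • 1 := by
  have hsq : ((a : M2) - c • 1) * ((a : M2) - c • 1) = 0 := by
    rw [sub_mul, mul_sub, mul_sub, cayley _ a.2, h, smul_mul_assoc, one_mul, mul_smul_comm, mul_one,
      smul_mul_assoc, one_mul, smul_smul, hc]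
    module
  have e : ((a : M2) - c • 1) ^ p = 0 := by
    obtain ⟨r, hr⟩ := Nat.exists_eq_add_of_le (Fact.out : p.Prime).two_le
    rw [hr, pow_add, pow_two, hsq, zero_mul]
  rw [sub_pow_char_of_commute p ((Commute.one_right (a : M2)).smul_right c), smul_pow, one_pow, sub_eq_zero] at e
  exact ⟨c ^ p, by rw [Matrix.SpecialLinearGroup.coe_pow, e]⟩

/-- The two kinds of semisimple elements: their solubilizers and their exponents. -/
theorem semisimple_cases {a : SL2} (ha : ∀ r : F, (a : M2) ≠ r • 1) (hg : Generic a)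
    (hne : Nonempty (Conic (-(a : M2).trace) (-1 : F))) :
    (Nat.card {b : SL2 // Sol a b} = 2 * Nat.card F * (Nat.card F - 1) ∧ a ^ (Nat.card F - 1) = 1) ∨
      (Nat.card {b : SL2 // Sol a b} = 2 * (Nat.card F + 1) ∧ a ^ (Nat.card F + 1) = 1) := by
  obtain ⟨P, hP⟩ := exists_to_companion a ha
  set t := (a : M2).trace with ht
  have transferGeneric : ∀ b : SL2, (b : M2).trace = t → Generic b := by
    intro b hb
    obtain ⟨h0, h4, he⟩ := hg
    refine ⟨by rwa [hb], by rwa [hb], ?_⟩
    rw [trace_cube, hb]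
    rw [trace_cube, ← ht] at he
    exact he
  have hct : ((companion t : SL2) : M2).trace = t := by simp [companion, mk2, trace_fin_two]
  have hcs : ∀ r : F, ((companion t : SL2) : M2) ≠ r • 1 :=
    nonscalar_of_entries _ (Or.inr (Or.inl (by simp [companion, mk2])))
  by_cases hroot : ∃ l : F, l * l - t * l + 1 = 0
  · left
    obtain ⟨l, hl⟩ := hroot
    have hl0 : l ≠ 0 := fun h => by rw [h] at hl; simp at hl
    set L : Fˣ := Units.mk0 l hl0 with hL
    have hLt : ((diag2 L : SL2) : M2).trace = t := by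
      rw [diag2, mk2_coe, trace_fin_two_of, Units.val_inv_eq_inv_val, hL, Units.val_mk0]
      field_simp
      linear_combination hl
    have hLs : ∀ r : F, ((diag2 L : SL2) : M2) ≠ r • 1 := by
      refine nonscalar_of_entries _ (Or.inr (Or.inr ?_))
      intro h
      apply hg.t4
      rw [trace_fin_two, ← h] at hLt
      simp [diag2, mk2, hL] at h hLt
      field_simp at h
      rw [← ht, ← hLt]
      linear_combination 4 * h
    refine ⟨(card_sol_eq_of_trace a _ ha hLs hLt.symm).trans (card_sol_split L (transferGeneric _ hLt)), ?_⟩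
    obtain ⟨Q, hQ⟩ := exists_to_companion _ hLs
    rw [hLt] at hQ
    haveI := Fintype.ofFinite F
    have h1 : (diag2 L : SL2) ^ (Nat.card F - 1) = 1 := by
      show (diagHom L) ^ _ = 1
      rw [← map_pow, ← Nat.card_units, pow_card_eq_one', map_one]
    have h2 := congrArg (conjEquiv Q) h1
    rw [map_pow, hQ, ← hP, ← map_pow, map_one] at h2
    exact (conjEquiv P).injective (h2.trans (map_one _).symm)
  · right
    push Not at hroot
    have hirr : ∀ x : F, x * x + t * x + 1 ≠ 0 := fun x h => hroot (-x) (by linear_combination h)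
    refine ⟨(card_sol_eq_of_trace a _ ha hcs hct.symm).trans
      (card_sol_nonsplit hirr (transferGeneric _ hct) hne), ?_⟩
    have hC : Nat.card (Subgroup.centralizer ({companion t} : Set SL2)) = Nat.card F + 1 := by
      rw [← card_conic_one hirr, ← card_commute_companion]
      exact Nat.card_congr (Equiv.subtypeEquivRight fun b => by
        rw [Subgroup.mem_centralizer_singleton_iff]
        exact eq_comm)
    have h1 : (⟨companion t, Subgroup.mem_centralizer_singleton_iff.2 rfl⟩ :
        Subgroup.centralizer ({companion t} : Set SL2)) ^ (Nat.card F + 1) = 1 := by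
      rw [← hC]; exact pow_card_eq_one'
    have h2 : (companion t) ^ (Nat.card F + 1) = 1 := congrArg Subtype.val h1
    rw [← hP, ← map_pow] at h2
    exact (conjEquiv P).injective (h2.trans (map_one _).symm)

/-- Solubilizers in `PSL₂` of elements of order dividing `q ± 1`. -/
theorem card_solubilizer_semisimple (p : ℕ) [Fact p.Prime] [CharP F p]
    (hpq : p ∣ Nat.card F) {a : SL2} (hexc : (a : M2).trace ≠ 0 → (a : M2).trace ^ 2 ≠ 4 →
      ((2 : F) = 0 ∨ (¬ IsSquare (2 : F) ∧ ((a ^ 3 : SL2) : M2).trace ≠ 0 ∧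
        ((a ^ 3 : SL2) : M2).trace ≠ 2 ∧ ((a ^ 3 : SL2) : M2).trace ≠ -2)) ∧
        Nonempty (Conic (-(a : M2).trace) (-1 : F)))
    (hx1 : (proj a : PSL2) ≠ 1) (hx2 : orderOf (proj a : PSL2) ≠ 2) :
    (orderOf (proj a : PSL2) ∣ Nat.card F - 1 → Nat.card (Subgroup.center SL2) *
      Nat.card {y : PSL2 // Group.IsSolvable ↥(Subgroup.closure ({proj a, y} : Set PSL2))} =
        2 * Nat.card F * (Nat.card F - 1)) ∧
    (orderOf (proj a : PSL2) ∣ Nat.card F + 1 → Nat.card (Subgroup.center SL2) *
      Nat.card {y : PSL2 // Group.IsSolvable ↥(Subgroup.closure ({proj a, y} : Set PSL2))} =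
        2 * (Nat.card F + 1)) := by
  set x : PSL2 := proj a with hx
  set q := Nat.card F with hq
  have hq0 : 0 < q := Nat.card_pos
  have ha := nonscalar_of_proj hx1
  have hd2 : ∀ d, d ∣ q - 1 ∨ d ∣ q + 1 → p ∣ d → False := by
    intro d hd hpd
    rcases hd with hd | hd
    · have := Nat.dvd_sub hpq (hpd.trans hd)
      rw [show q - (q - 1) = 1 by omega] at this
      exact (Fact.out : p.Prime).one_lt.ne' (Nat.dvd_one.1 this)
    · have := Nat.dvd_sub (hpd.trans hd) hpq
      rw [show q + 1 - q = 1 by omega] at this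
      exact (Fact.out : p.Prime).one_lt.ne' (Nat.dvd_one.1 this)
  have ht0 : (a : M2).trace ≠ 0 := by
    intro h
    have h2 := orderOf_dvd_of_pow_eq_one ((trace_eq_zero_iff hx1).2 h)
    rcases (Nat.dvd_prime Nat.prime_two).1 h2 with h3 | h3
    · exact hx1 (orderOf_eq_one_iff.1 h3)
    · exact hx2 h3
  have ht4 : orderOf x ∣ q - 1 ∨ orderOf x ∣ q + 1 → (a : M2).trace ^ 2 ≠ 4 := by
    intro hd h
    obtain ⟨c, hc, htc⟩ : ∃ c : F, c * c = 1 ∧ (a : M2).trace = 2 * c := by
      rcases eq_or_ne (2 : F) 0 with h2 | h2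
      · exfalso
        refine ht0 ?_
        have : (a : M2).trace * (a : M2).trace = 0 := by linear_combination h + 2 * h2
        exact (mul_eq_zero.1 this).elim id id
      · exact ⟨(a : M2).trace / 2, by field_simp; linear_combination h, by field_simp⟩
    have h3 := orderOf_dvd_of_pow_eq_one (proj_pow_eq_one.2 (pow_unipotent p htc hc))
    rcases (Nat.dvd_prime (Fact.out : p.Prime)).1 h3 with h4 | h4
    · exact hx1 (orderOf_eq_one_iff.1 h4)
    · exact hd2 _ hd (dvd_of_eq h4.symm)
  have both : orderOf x ∣ q - 1 → orderOf x ∣ q + 1 → False := by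
    intro h1 h2
    have := Nat.dvd_sub h2 h1
    rw [show q + 1 - (q - 1) = 2 by omega] at this
    rcases (Nat.dvd_prime Nat.prime_two).1 this with h3 | h3
    · exact hx1 (orderOf_eq_one_iff.1 h3)
    · exact hx2 h3
  have key := fun hd => semisimple_cases ha ⟨ht0, ht4 hd, (hexc ht0 (ht4 hd)).1⟩ (hexc ht0 (ht4 hd)).2
  constructor <;> intro hd
  · rcases key (Or.inl hd) with ⟨h, -⟩ | ⟨-, he⟩
    · rw [card_center_mul, h]
    · exact (both hd (orderOf_dvd_of_pow_eq_one (by rw [hx, ← map_pow, he, map_one]))).elim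
  · rcases key (Or.inr hd) with ⟨-, he⟩ | ⟨h, -⟩
    · exact (both (orderOf_dvd_of_pow_eq_one (by rw [hx, ← map_pow, he, map_one])) hd).elim
    · rw [card_center_mul, h]

end CfsgLib.Classical.Solubilizer
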