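import Mathlib

/-!
# Soluble two-generated subgroups of `SL₂` over a field

If `⟨a, b⟩` is soluble then `a, b` have a common eigenvector, commute, two of `tr a, tr b, tr ab`
vanish, or both normalise a pair of anticommuting square roots of `-1`.
-/

set_option autoImplicit false
set_option linter.unusedSectionVars false
set_option linter.unusedSimpArgs false

open Matrix
open scoped MatrixGroups commutatorElement

namespace CfsgLib.Classical.Solubilizer

variable {F : Type*} [Field F]

local notation "M2" => Matrix (Fin 2) (Fin 2) F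
local notation "SL2" => Matrix.SpecialLinearGroup (Fin 2) F

theorem coe_mul' (g h : SL2) : ((g * h : SL2) : M2) = (g : M2) * (h : M2) := rfl

theorem coe_one' : ((1 : SL2) : M2) = 1 := rfl

theorem cayley (A : M2) (hA : A.det = 1) : A * A = A.trace • A - 1 := by
  ext i j
  rw [det_fin_two] at hA
  fin_cases i <;> fin_cases j <;> simp [Matrix.mul_apply, Fin.sum_univ_two, trace_fin_two] <;>
    (first | linear_combination -hA | linear_combination hA | ring)

theorem cayley_zero (A : M2) (hA : A.det = 1) (ht : A.trace = 0) : A * A = -1 := by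
  rw [cayley A hA, ht, zero_smul, zero_sub]

/-- A matrix commuting with a nonscalar matrix is a combination of it and the identity. -/
theorem of_commute (u : M2) (hu : ∀ r : F, u ≠ r • 1) (k : M2) (h : k * u = u * k) :
    ∃ r s : F, k = r • 1 + s • u := by
  have e : ∀ i j, (k * u) i j = (u * k) i j := fun i j => by rw [h]
  have e00 := e 0 0
  have e01 := e 0 1
  have e10 := e 1 0
  have e11 := e 1 1
  simp [Matrix.mul_apply, Fin.sum_univ_two] at e00 e01 e10 e11
  by_cases h01 : u 0 1 = 0
  · by_cases h10 : u 1 0 = 0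
    · have hd : u 0 0 - u 1 1 ≠ 0 := by
        intro hd
        refine hu (u 0 0) ?_
        ext i j
        fin_cases i <;> fin_cases j <;> simp [h01, h10, Matrix.one_apply]
        linear_combination -hd
      simp only [h01, h10, mul_zero, zero_mul, add_zero, zero_add] at e01 e10
      have k01 : k 0 1 = 0 := by
        have : k 0 1 * (u 0 0 - u 1 1) = 0 := by linear_combination -e01
        exact (mul_eq_zero.1 this).resolve_right hd
      have k10 : k 1 0 = 0 := by
        have : k 1 0 * (u 0 0 - u 1 1) = 0 := by linear_combination e10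
        exact (mul_eq_zero.1 this).resolve_right hd
      refine ⟨k 0 0 - (k 0 0 - k 1 1) / (u 0 0 - u 1 1) * u 0 0, (k 0 0 - k 1 1) / (u 0 0 - u 1 1), ?_⟩
      ext i j
      fin_cases i <;> fin_cases j <;> simp [h01, h10, k01, k10, Matrix.one_apply]
      field_simp
      ring
    · refine ⟨k 0 0 - k 1 0 / u 1 0 * u 0 0, k 1 0 / u 1 0, ?_⟩
      simp only [h01, mul_zero, zero_mul, add_zero, zero_add] at e00 e10
      ext i j
      fin_cases i <;> fin_cases j <;> simp [h01, Matrix.one_apply, h10]
      · have : k 0 1 * u 1 0 = 0 := by linear_combination e00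
        exact (mul_eq_zero.1 this).resolve_right h10
      · field_simp
        linear_combination e10
  · refine ⟨k 0 0 - k 0 1 / u 0 1 * u 0 0, k 0 1 / u 0 1, ?_⟩
    ext i j
    fin_cases i <;> fin_cases j <;> simp [Matrix.one_apply, h01]
    · field_simp
      linear_combination -e00
    · field_simp
      linear_combination -e01

theorem nonscalar_of_noncentral (g : SL2) (hg : g ∉ Subgroup.center SL2) :
    ∀ r : F, (g : M2) ≠ r • 1 := by
  intro r hr
  refine hg (Subgroup.mem_center_iff.2 fun h => Subtype.ext ?_)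
  show (h : M2) * (g : M2) = (g : M2) * (h : M2)
  rw [hr]
  simp

theorem mem_center_scalar (g : SL2) (hg : g ∈ Subgroup.center SL2) :
    ∃ r : F, r * r = 1 ∧ (g : M2) = r • 1 := by
  have h1 := congrArg Subtype.val
    (Subgroup.mem_center_iff.1 hg (SpecialLinearGroup.transvection (i := (0 : Fin 2)) (j := 1) zero_ne_one 1))
  have h2 := congrArg Subtype.val
    (Subgroup.mem_center_iff.1 hg (SpecialLinearGroup.transvection (i := (1 : Fin 2)) (j := 0) one_ne_zero 1))
  have e1 : ∀ i j, ((Matrix.transvection (0 : Fin 2) 1 (1 : F)) * (g : M2)) i j =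
      ((g : M2) * Matrix.transvection (0 : Fin 2) 1 (1 : F)) i j := fun i j => congrFun (congrFun h1 i) j
  have e2 : ∀ i j, ((Matrix.transvection (1 : Fin 2) 0 (1 : F)) * (g : M2)) i j =
      ((g : M2) * Matrix.transvection (1 : Fin 2) 0 (1 : F)) i j := fun i j => congrFun (congrFun h2 i) j
  have a1 := e1 0 0
  have a2 := e1 0 1
  have a3 := e2 0 0
  simp [Matrix.transvection, Matrix.single, Matrix.mul_apply, Fin.sum_univ_two, Matrix.one_apply] at a1 a2 a3
  have hd := g.2
  rw [det_fin_two] at hd
  have h00 : g.1 1 1 = g.1 0 0 := by linear_combination a2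
  refine ⟨g.1 0 0, ?_, ?_⟩
  · rw [a1, h00] at hd
    linear_combination hd
  · ext i j
    fin_cases i <;> fin_cases j <;> simp [Matrix.one_apply, a1, a3, h00]

theorem center_iff (g : SL2) : g ∈ Subgroup.center SL2 ↔ ∃ r : F, (g : M2) = r • 1 :=
  ⟨fun h => (mem_center_scalar g h).imp fun _ h' => h'.2,
    fun ⟨r, hr⟩ => by_contra fun h => nonscalar_of_noncentral g h r hr⟩

/-- Outcome of conjugating a torus element into its own centraliser. -/
theorem conj_cases (u h : SL2) (hu : ∀ r : F, (u : M2) ≠ r • 1)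
    (hc : h * u * h⁻¹ * u = u * (h * u * h⁻¹)) (ht : (u : M2).trace ^ 2 ≠ 4) :
    h * u = u * h ∨ (h : M2).trace = 0 := by
  set U : M2 := (u : M2) with hU
  set H : M2 := (h : M2) with hH
  set V : M2 := ((h * u * h⁻¹ : SL2) : M2) with hV
  obtain ⟨r, s, hrs⟩ := of_commute U hu V (congrArg Subtype.val hc)
  have hVH : V * H = H * U := by
    have := congrArg Subtype.val (show h * u * h⁻¹ * h = h * u by group)
    exact this
  set t := U.trace with htdef
  have htr : 2 * r + s * t = t := by
    have h1 : V.trace = t := by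
      have e : ((h⁻¹ * (h * u) : SL2) : M2) = U := by rw [inv_mul_cancel_left]
      rw [hV, htdef, ← e]
      show (((h * u : SL2) : M2) * ((h⁻¹ : SL2) : M2)).trace = (((h⁻¹ : SL2) : M2) * ((h * u : SL2) : M2)).trace
      exact Matrix.trace_mul_comm _ _
    rw [hrs, Matrix.trace_add, Matrix.trace_smul, Matrix.trace_smul, trace_one, Fintype.card_fin,
      smul_eq_mul, smul_eq_mul, ← htdef] at h1
    push_cast at h1
    linear_combination h1
  have hdet : r * r + r * s * t + s * s = 1 := by
    have h1 : V.det = 1 := (h * u * h⁻¹).2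
    have h2 : U.det = 1 := u.2
    rw [hrs, det_fin_two] at h1
    rw [det_fin_two] at h2
    simp [Matrix.one_apply] at h1
    rw [htdef, trace_fin_two]
    linear_combination h1 - s * s * h2
  have hs : (t ^ 2 - 4) * (1 - s * s) = 0 := by
    linear_combination (-t - s * t - 2 * r) * htr + 4 * hdet
  have hs1 : 1 - s * s = 0 := (mul_eq_zero.1 hs).resolve_left (sub_ne_zero.2 ht)
  have hinv : (r = 0 ∧ s = 1) ∨ (r = t ∧ s = -1) := by
    have : (s - 1) * (s + 1) = 0 := by linear_combination -hs1
    rcases mul_eq_zero.1 this with h1 | h1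
    · have hse : s = 1 := sub_eq_zero.1 h1
      subst hse
      have h2r : 2 * r = 0 := by linear_combination htr
      have : r * (r + t) = 0 := by linear_combination hdet
      rcases mul_eq_zero.1 this with h2 | h2
      · exact Or.inl ⟨h2, rfl⟩
      · rcases mul_eq_zero.1 h2r with h3 | h3
        · refine Or.inr ⟨?_, ?_⟩
          · linear_combination h2 - t * h3
          · linear_combination h3
        · exact Or.inl ⟨h3, rfl⟩
    · have hse : s = -1 := eq_neg_of_add_eq_zero_left h1
      subst hse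
      have h2r : 2 * (r - t) = 0 := by linear_combination htr
      have : r * (r - t) = 0 := by linear_combination hdet
      rcases mul_eq_zero.1 this with h2 | h2
      · rcases mul_eq_zero.1 h2r with h3 | h3
        · refine Or.inl ⟨h2, ?_⟩
          linear_combination -h3
        · exact Or.inr ⟨sub_eq_zero.1 h3, rfl⟩
      · exact Or.inr ⟨sub_eq_zero.1 h2, rfl⟩
  rcases hinv with ⟨hr, hse⟩ | ⟨hr, hse⟩
  · left
    rw [hr, hse, zero_smul, zero_add, one_smul] at hrs
    refine Subtype.ext ?_
    show H * U = U * H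
    rw [← hVH, hrs]
  · right
    rw [hr, hse] at hrs
    have hHU : H * U = t • H - U * H := by
      rw [← hVH, hrs, add_mul, smul_mul_assoc, one_mul, smul_mul_assoc, neg_one_smul, sub_eq_add_neg]
    set T := H.trace
    set P := (H * U).trace with hP
    have e1 : 2 * P = t * T := by
      have := congrArg Matrix.trace hHU
      rw [Matrix.trace_sub, Matrix.trace_smul, Matrix.trace_mul_comm U H, ← hP, smul_eq_mul] at this
      linear_combination this
    have e2 : t * P = 2 * T := by
      have := congrArg (fun X : M2 => (X * U).trace) hHU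
      rw [sub_mul, smul_mul_assoc, Matrix.trace_sub, Matrix.trace_smul,
        mul_assoc U H U, Matrix.trace_mul_comm U (H * U), mul_assoc H U U, cayley U u.2,
        mul_sub, mul_smul_comm, mul_one, Matrix.trace_sub, Matrix.trace_smul, ← htdef, ← hP,
        smul_eq_mul] at this
      linear_combination this
    have : (t ^ 2 - 4) * T = 0 := by linear_combination -t * e1 + 2 * e2
    exact (mul_eq_zero.1 this).resolve_left (sub_ne_zero.2 ht)

/-- `g` commutes or anticommutes with `u` and with `v`. -/
def IsMonomial (u v g : M2) : Prop :=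
  (g * u = u * g ∨ g * u = -(u * g)) ∧ (g * v = v * g ∨ g * v = -(v * g))

/-- Two anticommuting square roots of `-1`. -/
structure IsPair (u v : SL2) : Prop where
  anti : (u : M2) * v = -((v : M2) * u)
  tru : (u : M2).trace = 0
  trv : (v : M2).trace = 0
  ne : (2 : F) ≠ 0

namespace IsPair

variable {u v : Matrix.SpecialLinearGroup (Fin 2) F} (hp : IsPair u v)
include hp

theorem squ : (u : M2) * u = -1 := cayley_zero _ u.2 hp.tru
theorem sqv : (v : M2) * v = -1 := cayley_zero _ v.2 hp.trv

theorem symm : IsPair v u := ⟨by rw [hp.anti, neg_neg], hp.trv, hp.tru, hp.ne⟩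

theorem anti' : (v : M2) * u = -((u : M2) * v) := hp.symm.anti

theorem u_ne_scalar (r : F) : (u : M2) ≠ r • 1 := by
  intro h
  have h1 := hp.tru
  have h2 : (u : M2).det = 1 := u.2
  rw [h, Matrix.trace_smul, trace_one, Fintype.card_fin, smul_eq_mul] at h1
  rw [h, det_smul, det_one, mul_one, Fintype.card_fin] at h2
  push_cast at h1
  have : r = 0 := (mul_eq_zero.1 h1).resolve_right hp.ne
  simp [this] at h2

theorem scalar_of_commute {g : M2} (h1 : g * (u : M2) = (u : M2) * g) (h2 : g * (v : M2) = (v : M2) * g) :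
    ∃ r : F, g = r • 1 := by
  obtain ⟨r, s, rfl⟩ := of_commute _ hp.u_ne_scalar g h1
  refine ⟨r, ?_⟩
  rw [add_mul, mul_add, smul_mul_assoc, smul_mul_assoc, mul_smul_comm, mul_smul_comm, one_mul,
    mul_one, add_left_cancel_iff, hp.anti', smul_neg, ← sub_eq_zero, sub_neg_eq_add, ← add_smul] at h2
  rcases smul_eq_zero.1 h2 with h3 | h3
  · have : s = 0 := by
      have : (2 : F) * s = 0 := by linear_combination h3
      exact (mul_eq_zero.1 this).resolve_left hp.ne
    rw [this, zero_smul, add_zero]
  · exfalso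
    have := congrArg (fun X : M2 => (u : M2) * X * (v : M2)) h3
    simp only [mul_zero, zero_mul] at this
    rw [← mul_assoc (u : M2) (u : M2) (v : M2), hp.squ, neg_one_mul, neg_mul, hp.sqv, neg_neg] at this
    exact one_ne_zero this

/-- A monomial matrix is a multiple of one of `1, u, v, uv`. -/
theorem monomial_cases {g : M2} (h : IsMonomial (u : M2) v g) :
    ∃ r : F, g = r • 1 ∨ g = r • (u : M2) ∨ g = r • (v : M2) ∨ g = r • ((u : M2) * v) := by
  rcases h with ⟨hu | hu, hv | hv⟩
  · exact (hp.scalar_of_commute hu hv).imp fun r hr => Or.inl hr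
  · obtain ⟨r, hr⟩ := hp.scalar_of_commute (g := g * (u : M2)) (by rw [hu, mul_assoc, hu])
      (by rw [mul_assoc, hp.anti, mul_neg, ← mul_assoc, hv, neg_mul, neg_neg, mul_assoc, hu])
    refine ⟨-r, Or.inr (Or.inl ?_)⟩
    have := congrArg (fun X : M2 => X * (u : M2)) hr
    simp only [smul_mul_assoc, one_mul] at this
    rw [mul_assoc, hp.squ, mul_neg_one] at this
    rw [neg_smul, ← this, neg_neg]
  · obtain ⟨r, hr⟩ := hp.scalar_of_commute (g := g * (v : M2))
      (by rw [mul_assoc, hp.anti', mul_neg, ← mul_assoc, hu, neg_mul, neg_neg, mul_assoc, hv])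
      (by rw [hv, mul_assoc, hv])
    refine ⟨-r, Or.inr (Or.inr (Or.inl ?_))⟩
    have := congrArg (fun X : M2 => X * (v : M2)) hr
    simp only [smul_mul_assoc, one_mul] at this
    rw [mul_assoc, hp.sqv, mul_neg_one] at this
    rw [neg_smul, ← this, neg_neg]
  · have c1 : g * ((u : M2) * v) * (u : M2) = (u : M2) * (g * ((u : M2) * v)) := by
      rw [mul_assoc, mul_assoc (u : M2), hp.anti', mul_neg, mul_neg, ← mul_assoc, hu, neg_mul, neg_neg,
        mul_assoc]
    have c2 : g * ((u : M2) * v) * (v : M2) = (v : M2) * (g * ((u : M2) * v)) := by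
      rw [mul_assoc, mul_assoc (u : M2), hp.sqv, ← mul_assoc (v : M2), show (v : M2) * g = -(g * (v : M2)) by rw [hv, neg_neg], neg_mul,
        mul_assoc g, ← mul_assoc (v : M2), hp.anti', neg_mul, mul_assoc (u : M2), hp.sqv]
      simp only [mul_neg, neg_neg, mul_one]
    obtain ⟨r, hr⟩ := hp.scalar_of_commute c1 c2
    refine ⟨-r, Or.inr (Or.inr (Or.inr ?_))⟩
    have := congrArg (fun X : M2 => X * ((u : M2) * v)) hr
    simp only [smul_mul_assoc, one_mul] at this
    have hsq : ((u : M2) * v) * ((u : M2) * v) = -1 := by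
      rw [mul_assoc, ← mul_assoc (v : M2), hp.anti', neg_mul, mul_assoc (u : M2) (v : M2),
        hp.sqv, mul_neg_one, neg_neg, hp.squ]
    rw [mul_assoc, hsq, mul_neg_one] at this
    rw [neg_smul, ← this, neg_neg]

theorem monomial_trace {g : SL2} (h : IsMonomial (u : M2) v (g : M2)) :
    (g : M2).trace = 0 ∨ (g : M2).trace = 2 ∨ (g : M2).trace = -2 := by
  obtain ⟨r, hr | hr | hr | hr⟩ := hp.monomial_cases h
  · have hd : (g : M2).det = 1 := g.2
    rw [hr, det_smul, det_one, mul_one, Fintype.card_fin] at hd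
    have : (r - 1) * (r + 1) = 0 := by linear_combination hd
    rw [hr, Matrix.trace_smul, trace_one, Fintype.card_fin, smul_eq_mul]
    push_cast
    rcases mul_eq_zero.1 this with h1 | h1
    · exact Or.inr (Or.inl (by linear_combination 2 * h1))
    · exact Or.inr (Or.inr (by linear_combination 2 * h1))
  · left; rw [hr, Matrix.trace_smul, hp.tru, smul_zero]
  · left; rw [hr, Matrix.trace_smul, hp.trv, smul_zero]
  · left
    rw [hr, Matrix.trace_smul]
    have : ((u : M2) * v).trace = 0 := by
      have h1 := congrArg Matrix.trace hp.anti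
      rw [Matrix.trace_neg, Matrix.trace_mul_comm (v : M2)] at h1
      have : (2 : F) * ((u : M2) * v).trace = 0 := by linear_combination h1
      exact (mul_eq_zero.1 this).resolve_left hp.ne
    rw [this, smul_zero]

/-- A matrix interchanging two anticommuting axes makes two a square. -/
theorem isSquare_two {h : SL2} {ε ε' : F} (hε : ε * ε = 1)
    (h1 : (h : M2) * (u : M2) = ε • ((v : M2) * h)) (h2 : (h : M2) * (v : M2) = ε' • ((u : M2) * h))
    (hε' : ε' * ε' = 1) : IsSquare (2 : F) := by
  set U : M2 := (u : M2)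
  set V : M2 := (v : M2)
  set H : M2 := (h : M2)
  set c : M2 := U + ε • V with hc
  have hcu : c * U = ε • (V * c) := by
    rw [hc, add_mul, smul_mul_assoc, mul_add, mul_smul_comm, smul_add, smul_smul, hε, one_smul,
      hp.squ, hp.sqv, add_comm]
  have hcv : c * V = ε • (U * c) := by
    rw [hc, add_mul, smul_mul_assoc, mul_add, mul_smul_comm, smul_add, smul_smul, hε, one_smul,
      hp.squ, hp.sqv, add_comm]
  have hku : c * H * U = U * (c * H) := by
    rw [mul_assoc, h1, mul_smul_comm, ← mul_assoc, hcv, smul_mul_assoc, smul_smul, hε, one_smul, mul_assoc]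
  have hkv : c * H * V = V * (c * H) ∨ c * H * V = -(V * (c * H)) := by
    have e : c * H * V = (ε * ε') • (V * (c * H)) := by
      rw [mul_assoc, h2, mul_smul_comm, ← mul_assoc, hcu, smul_mul_assoc, smul_smul, mul_comm ε', mul_assoc]
    have : (ε * ε' - 1) * (ε * ε' + 1) = 0 := by
      linear_combination ε' * ε' * hε + hε'
    rcases mul_eq_zero.1 this with h3 | h3
    · exact Or.inl (by rw [e, sub_eq_zero.1 h3, one_smul])
    · exact Or.inr (by rw [e, eq_neg_of_add_eq_zero_left h3, neg_one_smul])
  have hdet : (c * H).det = 2 := by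
    rw [det_mul, show H.det = 1 from h.2, mul_one, hc]
    have a1 : U.det = 1 := u.2
    have a2 : V.det = 1 := v.2
    have a4 : U.trace = 0 := hp.tru
    have a5 : V.trace = 0 := hp.trv
    have a6 : (U * V).trace = 0 := by
      have h1 := congrArg Matrix.trace hp.anti
      rw [Matrix.trace_neg, Matrix.trace_mul_comm V U] at h1
      have : (2 : F) * (U * V).trace = 0 := by linear_combination h1
      exact (mul_eq_zero.1 this).resolve_left hp.ne
    rw [det_fin_two] at a1 a2 ⊢
    rw [trace_fin_two] at a4 a5 a6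
    simp [Matrix.mul_apply, Fin.sum_univ_two] at a6 ⊢
    linear_combination a1 + ε * ε * a2 + hε - ε * a6 + ε * (U 0 0 + U 1 1) * a5
  obtain ⟨r, hr | hr | hr | hr⟩ := hp.monomial_cases (g := c * H) ⟨Or.inl hku, hkv⟩
  all_goals refine ⟨r, ?_⟩
  all_goals rw [← hdet, hr, det_smul, Fintype.card_fin]
  · rw [det_one]; ring
  · rw [show U.det = 1 from u.2]; ring
  · rw [show V.det = 1 from v.2]; ring
  · rw [det_mul, show U.det = 1 from u.2, show V.det = 1 from v.2]; ring

end IsPair

theorem commute_of_commute (a b x : SL2) (hx : ∀ r : F, (x : M2) ≠ r • 1) (h1 : a * x = x * a)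
    (h2 : b * x = x * b) : a * b = b * a := by
  obtain ⟨r, s, hr⟩ := of_commute _ hx (a : M2) (congrArg Subtype.val h1)
  obtain ⟨r', s', hr'⟩ := of_commute _ hx (b : M2) (congrArg Subtype.val h2)
  refine Subtype.ext ?_
  show (a : M2) * b = (b : M2) * a
  rw [hr, hr']
  simp only [add_mul, mul_add, smul_mul_assoc, mul_smul_comm, one_mul, mul_one, smul_add, smul_smul]
  module

namespace IsPair

variable {u v : Matrix.SpecialLinearGroup (Fin 2) F} (hp : IsPair u v)
include hp

theorem sign (r : F) {z : SL2} (hz : (z : M2).det = 1) {g : SL2} (h : (g : M2) = r • (z : M2)) : r * r = 1 := by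
  have hd : (g : M2).det = 1 := g.2
  rw [h, det_smul, Fintype.card_fin, hz, mul_one] at hd
  linear_combination hd

/-- A conjugate of an axis is an axis. -/
theorem axis_cases {g : SL2} (hg : IsMonomial (u : M2) v (g : M2)) (ht : (g : M2).trace = 0) :
    ∃ r : F, r * r = 1 ∧ ((g : M2) = r • (u : M2) ∨ (g : M2) = r • (v : M2) ∨ (g : M2) = r • ((u * v : SL2) : M2)) := by
  obtain ⟨r, hr | hr | hr | hr⟩ := hp.monomial_cases hg
  · exfalso
    have hd : (g : M2).det = 1 := g.2
    rw [hr, det_smul, det_one, mul_one, Fintype.card_fin] at hd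
    rw [hr, Matrix.trace_smul, trace_one, Fintype.card_fin, smul_eq_mul] at ht
    push_cast at ht
    rw [(mul_eq_zero.1 ht).resolve_right hp.ne] at hd
    simp at hd
  · exact ⟨r, hp.sign r u.2 hr, Or.inl hr⟩
  · exact ⟨r, hp.sign r v.2 hr, Or.inr (Or.inl hr)⟩
  · exact ⟨r, hp.sign r (u * v).2 hr, Or.inr (Or.inr hr)⟩

theorem pair_uv : IsPair u (u * v) ∧ IsPair v (u * v) := by
  have t : ((u * v : SL2) : M2).trace = 0 := by
    have h1 := congrArg Matrix.trace hp.anti
    rw [Matrix.trace_neg, Matrix.trace_mul_comm (v : M2)] at h1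
    have : (2 : F) * ((u : M2) * v).trace = 0 := by linear_combination h1
    exact (mul_eq_zero.1 this).resolve_left hp.ne
  refine ⟨⟨?_, hp.tru, t, hp.ne⟩, ⟨?_, hp.trv, t, hp.ne⟩⟩
  · rw [coe_mul', mul_assoc (u : M2) (v : M2), hp.anti', mul_neg, neg_neg]
  · rw [coe_mul', ← mul_assoc, hp.anti', neg_mul]

/-- In the absence of a square root of two the cube of a normalising element is monomial. -/
theorem cube {D H : Subgroup SL2} (hmon : ∀ d ∈ D, IsMonomial (u : M2) v (d : M2))
    (hn : ∀ h ∈ H, ∀ x ∈ D, h * x * h⁻¹ ∈ D) (hu : u ∈ D) (hv : v ∈ D) (hsq : ¬ IsSquare (2 : F))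
    {g : SL2} (hg : g ∈ H) : IsMonomial (u : M2) v ((g ^ 3 : SL2) : M2) := by
  set G : M2 := (g : M2) with hG
  have hG3 : ((g ^ 3 : SL2) : M2) = G * (G * G) := by
    rw [pow_succ', pow_two]; rfl
  have img : ∀ x ∈ D, (x : M2).trace = 0 → ∃ r : F, r * r = 1 ∧
      (G * x = r • ((u : M2) * G) ∨ G * x = r • ((v : M2) * G) ∨ G * x = r • (((u * v : SL2) : M2) * G)) := by
    intro x hx hxt
    have hc : ((g * x * g⁻¹ : SL2) : M2).trace = 0 := by
      show (((g * x : SL2) : M2) * ((g⁻¹ : SL2) : M2)).trace = 0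
      rw [Matrix.trace_mul_comm, ← coe_mul', inv_mul_cancel_left, hxt]
    obtain ⟨r, hr, h⟩ := hp.axis_cases (hmon _ (hn g hg x hx)) hc
    have e : G * x = ((g * x * g⁻¹ : SL2) : M2) * G :=
      congrArg Subtype.val (show g * x = g * x * g⁻¹ * g by group)
    refine ⟨r, hr, ?_⟩
    rcases h with h | h | h
    · exact Or.inl (by rw [e, h, smul_mul_assoc])
    · exact Or.inr (Or.inl (by rw [e, h, smul_mul_assoc]))
    · exact Or.inr (Or.inr (by rw [e, h, smul_mul_assoc]))
  obtain ⟨r, hr, hU⟩ := img u hu hp.tru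
  obtain ⟨s, hs, hV⟩ := img v hv hp.trv
  have hW : G * ((u * v : SL2) : M2) = G * (u : M2) * v := by
    rw [coe_mul', mul_assoc]
  rw [coe_mul'] at hU hV
  set U : M2 := (u : M2) with hUdef
  set V : M2 := (v : M2) with hVdef
  set W : M2 := U * V with hWdef
  have pm : ∀ {x y : M2} {c : F}, c * c = 1 → G * (G * G) * x = c • (y * (G * (G * G))) →
      G * (G * G) * x = y * (G * (G * G)) ∨ G * (G * G) * x = -(y * (G * (G * G))) := by
    intro x y c hc h
    have : (c - 1) * (c + 1) = 0 := by linear_combination hc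
    rcases mul_eq_zero.1 this with h' | h'
    · exact Or.inl (by rw [h, sub_eq_zero.1 h', one_smul])
    · exact Or.inr (by rw [h, eq_neg_of_add_eq_zero_left h', neg_one_smul])
  have it : ∀ {x y z w : M2} {a b c : F}, G * x = a • (y * G) → G * y = b • (z * G) → G * z = c • (w * G) →
      G * (G * G) * x = (a * b * c) • (w * (G * (G * G))) := by
    intro x y z w a b c h1 h2 h3
    simp only [mul_assoc, h1, mul_smul_comm, ← mul_assoc G y, h2, smul_mul_assoc, smul_smul]
    rw [← mul_assoc G z, h3, smul_mul_assoc, smul_smul]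
    simp only [mul_assoc]
  have sq3 : ∀ {a b c : F}, a * a = 1 → b * b = 1 → c * c = 1 → a * b * c * (a * b * c) = 1 := by
    intro a b c ha hb hc
    linear_combination b * b * c * c * ha + c * c * hb + hc
  rw [hG3]
  have prodW : ∀ {x y : M2} {a b : F}, G * U = a • (x * G) → G * V = b • (y * G) →
      G * W = (a * b) • (x * y * G) := by
    intro x y a b h1 h2
    rw [hWdef, ← mul_assoc, h1, smul_mul_assoc, mul_assoc x, h2, mul_smul_comm, smul_smul, mul_assoc]
  have no : ∀ {p q : SL2} {a b : F}, IsPair p q → a * a = 1 → b * b = 1 →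
      G * (p : M2) = a • ((q : M2) * G) → G * (q : M2) = b • ((p : M2) * G) → False :=
    fun hpq ha hb h1 h2 => hsq (hpq.isSquare_two (h := g) ha h1 h2 hb)
  have eUW : U * W = -V := by rw [hWdef, ← mul_assoc, hp.squ, neg_one_mul]
  have eWU : W * U = V := by rw [hWdef, mul_assoc, hp.anti', mul_neg, ← hWdef, eUW, neg_neg]
  have eWV : W * V = -U := by rw [hWdef, mul_assoc, hp.sqv, mul_neg_one]
  have eVW : V * W = U := by rw [hWdef, ← mul_assoc, hp.anti', neg_mul, ← hWdef, eWV, neg_neg]
  have inj : ∀ {y : M2} {a b : F}, a * a = 1 → G * U = a • (y * G) → G * V = b • (y * G) → False := by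
    intro y a b ha h1 h2
    have e : G * V = G * ((b * a) • U) := by
      rw [mul_smul_comm, h1, smul_smul, mul_assoc b, ha, mul_one, h2]
    have e2 : V = (b * a) • U := by
      have := congrArg (fun X : M2 => ((g⁻¹ : SL2) : M2) * X) e
      simp only [← mul_assoc, hG, ← coe_mul', inv_mul_cancel, coe_one',
        one_mul] at this
      exact this
    have h3 := hp.anti
    rw [← hUdef, ← hVdef, e2, mul_smul_comm, smul_mul_assoc, hp.squ, smul_neg, neg_neg] at h3
    have h4 := congrFun (congrFun h3 0) 0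
    simp at h4
    have : (2 : F) * (b * a) = 0 := by linear_combination -h4
    have hba := (mul_eq_zero.1 this).resolve_left hp.ne
    rw [hba, zero_smul] at e2
    have := hp.sqv
    rw [← hVdef, e2, zero_mul] at this
    exact one_ne_zero (neg_eq_zero.1 this.symm)
  rcases hU with hU | hU | hU <;> rcases hV with hV | hV | hV
  · exact (inj hr hU hV).elim
  · exact ⟨pm (sq3 hr hr hr) (it hU hU hU), pm (sq3 hs hs hs) (it hV hV hV)⟩
  · have hw := prodW hU hV
    rw [eUW, neg_mul, smul_neg, ← neg_smul] at hw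
    exact (no hp.pair_uv.2 hs (by linear_combination s * s * hr + hs) hV hw).elim
  · exact (no hp hr hs hU hV).elim
  · exact (inj hr hU hV).elim
  · have hw := prodW hU hV
    rw [eVW] at hw
    exact ⟨pm (sq3 hr hs (by linear_combination s * s * hr + hs)) (it hU hV hw),
      pm (sq3 hs (by linear_combination s * s * hr + hs) hr) (it hV hw hU)⟩
  · have hw := prodW hU hV
    rw [eWU] at hw
    have hrs : r * s * (r * s) = 1 := by linear_combination s * s * hr + hs
    exact ⟨pm (sq3 hr hrs hs) (it hU hw hV), pm (sq3 hs hr hrs) (it hV hU hw)⟩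
  · have hw := prodW hU hV
    rw [eWV, neg_mul, smul_neg, ← neg_smul] at hw
    exact (no hp.pair_uv.1 hr (by linear_combination s * s * hr + hs) hU hw).elim
  · exact (inj hr hU hV).elim

end IsPair

/-- Two of the traces of `a, b, ab` vanish. -/
def TwoZero (a b : SL2) : Prop :=
  ((a : M2).trace = 0 ∧ (b : M2).trace = 0) ∨ ((a : M2).trace = 0 ∧ ((a * b : SL2) : M2).trace = 0) ∨
    ((b : M2).trace = 0 ∧ ((a * b : SL2) : M2).trace = 0)

/-- A common eigenvector. -/
def CommonEigen (a b : SL2) : Prop :=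
  ∃ w : Fin 2 → F, w ≠ 0 ∧ (∃ μ : F, (a : M2) *ᵥ w = μ • w) ∧ ∃ μ : F, (b : M2) *ᵥ w = μ • w

theorem unique_kernel {N : M2} (hN : N ≠ 0) {w x : Fin 2 → F} (hw0 : w ≠ 0) (hw : N *ᵥ w = 0)
    (hx : N *ᵥ x = 0) : ∃ μ : F, x = μ • w := by
  have hd : w 0 * x 1 - w 1 * x 0 = 0 := by
    by_contra hd
    apply hN
    have a := congrFun hw
    have b := congrFun hx
    have a0 := a 0
    have a1 := a 1
    have b0 := b 0
    have b1 := b 1
    simp [Matrix.mulVec, dotProduct, Fin.sum_univ_two] at a0 a1 b0 b1
    ext i j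
    fin_cases i <;> fin_cases j <;> refine mul_left_cancel₀ hd ?_ <;> simp only [Matrix.zero_apply, mul_zero, Fin.zero_eta, Fin.mk_one]
    · linear_combination x 1 * a0 - w 1 * b0
    · linear_combination -x 0 * a0 + w 0 * b0
    · linear_combination x 1 * a1 - w 1 * b1
    · linear_combination -x 0 * a1 + w 0 * b1
  by_cases h0 : w 0 = 0
  · have h1 : w 1 ≠ 0 := fun h1 => hw0 (funext fun i => by fin_cases i <;> simp [h0, h1])
    refine ⟨x 1 / w 1, funext fun i => ?_⟩
    fin_cases i <;> simp [h0, h1]
    have : w 1 * x 0 = 0 := by linear_combination -hd + x 1 * h0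
    exact (mul_eq_zero.1 this).resolve_left h1
  · refine ⟨x 0 / w 0, funext fun i => ?_⟩
    fin_cases i <;> simp [h0]
    field_simp
    linear_combination hd

/-- A nonscalar element of trace `2λ` has a single eigenline, fixed by all elements conjugating it
into its centraliser. -/
theorem exists_fixed_line (u : SL2) (hu : ∀ r : F, (u : M2) ≠ r • 1) (ht : (u : M2).trace ^ 2 = 4) :
    ∃ w : Fin 2 → F, w ≠ 0 ∧ ∀ h : SL2, h * u * h⁻¹ * u = u * (h * u * h⁻¹) →
      ∃ μ : F, (h : M2) *ᵥ w = μ • w := by
  set U : M2 := (u : M2) with hU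
  obtain ⟨c, hc, htc⟩ : ∃ c : F, c * c = 1 ∧ U.trace = 2 * c := by
    rcases eq_or_ne (2 : F) 0 with h2 | h2
    · refine ⟨1, one_mul 1, ?_⟩
      have : U.trace * U.trace = 0 := by linear_combination ht + 2 * h2
      rw [(mul_eq_zero.1 this).elim id id, h2, zero_mul]
    · refine ⟨U.trace / 2, ?_, by field_simp⟩
      field_simp
      linear_combination ht
  have hdet : (U - c • 1).det = 0 := by
    have hd : U.det = 1 := u.2
    rw [det_fin_two] at hd ⊢
    rw [trace_fin_two] at htc
    simp
    linear_combination hd - c * htc - hc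
  obtain ⟨w, hw0, hw⟩ := Matrix.exists_mulVec_eq_zero_iff.2 hdet
  have hN : U - c • 1 ≠ 0 := fun h => hu c (sub_eq_zero.1 h)
  refine ⟨w, hw0, fun h hc' => ?_⟩
  set V : M2 := ((h * u * h⁻¹ : SL2) : M2) with hV
  obtain ⟨r, s, hrs⟩ := of_commute U hu V (congrArg Subtype.val hc')
  have hVH : V * (h : M2) = (h : M2) * U := congrArg Subtype.val (show h * u * h⁻¹ * h = h * u by group)
  have hUw : U *ᵥ w = c • w := by
    rw [sub_mulVec, smul_mulVec, one_mulVec, sub_eq_zero] at hw
    exact hw
  have hs : s ≠ 0 := by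
    intro hs
    rw [hs, zero_smul, add_zero] at hrs
    obtain ⟨r', hr'⟩ : ∃ r' : F, U = r' • 1 := by
      refine (center_iff u).1 ?_
      have hcen : h * u * h⁻¹ ∈ Subgroup.center SL2 := (center_iff _).2 ⟨r, hrs⟩
      have := Subgroup.Normal.conj_mem inferInstance _ hcen h⁻¹
      simpa [mul_assoc] using this
    exact hu r' hr'
  set x := (h : M2) *ᵥ w with hx
  have hVx : V *ᵥ x = c • x := by
    rw [hx, mulVec_mulVec, hVH, ← mulVec_mulVec, hUw, mulVec_smul]
  rw [hrs, add_mulVec, smul_mulVec, one_mulVec, smul_mulVec] at hVx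
  set e := (c - r) / s with he
  have hUx : U *ᵥ x = e • x := by
    have : s • (U *ᵥ x) = (c - r) • x := by rw [sub_smul, ← hVx, add_sub_cancel_left]
    rw [he, div_eq_inv_mul, mul_smul, ← this, inv_smul_smul₀ hs]
  by_cases hx0 : x = 0
  · exact ⟨0, by rw [hx0, zero_smul]⟩
  have hec : e = c := by
    have hd : (U - e • 1).det = 0 :=
      Matrix.exists_mulVec_eq_zero_iff.1 ⟨x, hx0, by rw [sub_mulVec, smul_mulVec, one_mulVec, hUx, sub_self]⟩
    have h1 : U.det = 1 := u.2
    rw [det_fin_two] at h1 hd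
    rw [trace_fin_two] at htc
    simp at hd
    have : (e - c) * (e - c) = 0 := by linear_combination hd + e * htc - h1 + hc
    exact sub_eq_zero.1 ((mul_eq_zero.1 this).elim id id)
  exact unique_kernel hN hw0 hw (by rw [sub_mulVec, smul_mulVec, one_mulVec, hUx, hec, sub_self])

open scoped commutatorElement in
theorem exists_derived_noncentral {H : Subgroup SL2} (hH : Group.IsSolvable H)
    (hnc : ¬ ∀ x ∈ H, x ∈ Subgroup.center SL2) :
    ∃ D : Subgroup SL2, D ≤ H ∧ (∀ h ∈ H, ∀ x ∈ D, h * x * h⁻¹ ∈ D) ∧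
      (∃ x ∈ D, x ∉ Subgroup.center SL2) ∧ ∀ x ∈ D, ∀ y ∈ D, ⁅x, y⁆ ∈ Subgroup.center SL2 := by
  classical
  obtain ⟨n, hn⟩ := hH.solvable
  have hex : ∃ n, ∀ x ∈ derivedSeries H n, (x : SL2) ∈ Subgroup.center SL2 :=
    ⟨n, fun x hx => by
      rw [hn, Subgroup.mem_bot] at hx
      rw [hx]
      exact one_mem _⟩
  rcases hm : Nat.find hex with - | m
  · exfalso
    have := Nat.find_spec hex
    rw [hm] at this
    exact hnc fun x hx => this ⟨x, hx⟩ (Subgroup.mem_top _)
  · have h1 := Nat.find_spec hex
    rw [hm] at h1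
    have h2 := Nat.find_min hex (m := m) (by omega)
    push Not at h2
    obtain ⟨x, hx, hxc⟩ := h2
    refine ⟨(derivedSeries H m).map H.subtype, Subgroup.map_subtype_le _, ?_, ⟨_, ⟨x, hx, rfl⟩, hxc⟩, ?_⟩
    · rintro h hh _ ⟨y, hy, rfl⟩
      exact ⟨_, (derivedSeries_normal H m).conj_mem y hy ⟨h, hh⟩, rfl⟩
    · rintro _ ⟨y, hy, rfl⟩ _ ⟨z, hz, rfl⟩
      have := h1 ⁅y, z⁆ (Subgroup.commutator_mem_commutator hy hz)
      simpa [commutatorElement_def] using this

/-- The main dichotomy for soluble two-generated subgroups. -/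
theorem soluble_cases {a b : SL2} (hH : Group.IsSolvable ↥(Subgroup.closure ({a, b} : Set SL2))) :
    CommonEigen a b ∨ a * b = b * a ∨ TwoZero a b ∨
      ((2 : F) ≠ 0 ∧ (IsSquare (2 : F) ∨ ∀ g ∈ Subgroup.closure ({a, b} : Set SL2),
        ((g ^ 3 : SL2) : M2).trace = 0 ∨ ((g ^ 3 : SL2) : M2).trace = 2 ∨ ((g ^ 3 : SL2) : M2).trace = -2)) := by
  set H := Subgroup.closure ({a, b} : Set SL2) with hHdef
  have ha : a ∈ H := Subgroup.subset_closure (Or.inl rfl)
  have hb : b ∈ H := Subgroup.subset_closure (Or.inr rfl)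
  by_cases hnc : ∀ x ∈ H, x ∈ Subgroup.center SL2
  · exact Or.inr (Or.inl (Subgroup.mem_center_iff.1 (hnc b hb) a))
  obtain ⟨D, hDH, hDn, ⟨x, hxD, hxc⟩, hcom⟩ := exists_derived_noncentral hH hnc
  by_cases hab : ∀ y ∈ D, ∀ z ∈ D, y * z = z * y
  · have hx := nonscalar_of_noncentral x hxc
    have hca : a * x * a⁻¹ * x = x * (a * x * a⁻¹) := hab _ (hDn a ha x hxD) _ hxD
    have hcb : b * x * b⁻¹ * x = x * (b * x * b⁻¹) := hab _ (hDn b hb x hxD) _ hxD
    by_cases ht : (x : M2).trace ^ 2 = 4
    · obtain ⟨w, hw0, hw⟩ := exists_fixed_line x hx ht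
      exact Or.inl ⟨w, hw0, hw a hca, hw b hcb⟩
    have hcab : a * b * x * (a * b)⁻¹ * x = x * (a * b * x * (a * b)⁻¹) :=
      hab _ (hDn _ (mul_mem ha hb) x hxD) _ hxD
    rcases conj_cases x a hx hca ht with h1 | h1
    · rcases conj_cases x b hx hcb ht with h2 | h2
      · exact Or.inr (Or.inl (commute_of_commute a b x hx h1 h2))
      · rcases conj_cases x (a * b) hx hcab ht with h3 | h3
        · refine Or.inr (Or.inl ?_)
          have h2' : b * x = x * b := by
            have : a * (b * x) = a * (x * b) := by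
              rw [← mul_assoc, h3, ← mul_assoc, ← mul_assoc, h1]
            exact mul_left_cancel this
          exact commute_of_commute a b x hx h1 h2'
        · exact Or.inr (Or.inr (Or.inl (Or.inr (Or.inr ⟨h2, h3⟩))))
    · rcases conj_cases x b hx hcb ht with h2 | h2
      · rcases conj_cases x (a * b) hx hcab ht with h3 | h3
        · have h1' : a * x = x * a := by
            have : a * x * b = x * a * b := by
              rw [mul_assoc a x b, ← h2, ← mul_assoc, h3, mul_assoc]
            exact mul_right_cancel this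
          exact Or.inr (Or.inl (commute_of_commute a b x hx h1' h2))
        · exact Or.inr (Or.inr (Or.inl (Or.inr (Or.inl ⟨h1, h3⟩))))
      · exact Or.inr (Or.inr (Or.inl (Or.inl ⟨h1, h2⟩)))
  push Not at hab
  obtain ⟨u, huD, v, hvD, huv⟩ := hab
  have hanti : (u : M2) * v = -((v : M2) * u) ∧ (2 : F) ≠ 0 := by
    obtain ⟨r, hr, he⟩ := mem_center_scalar _ (hcom u huD v hvD)
    have e : (u : M2) * v = r • ((v : M2) * u) := by
      have h1 := congrArg Subtype.val (show u * v = ⁅u, v⁆ * (v * u) by rw [commutatorElement_def]; group)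
      rw [coe_mul', coe_mul', coe_mul', he,
        smul_mul_assoc, one_mul] at h1
      exact h1
    have : (r - 1) * (r + 1) = 0 := by linear_combination hr
    have hne : r ≠ 1 := fun h => huv (Subtype.ext (by
      show (u : M2) * v = (v : M2) * u
      rw [e, h, one_smul]))
    have hm := eq_neg_of_add_eq_zero_left ((mul_eq_zero.1 this).resolve_left (sub_ne_zero.2 hne))
    refine ⟨by rw [e, hm, neg_one_smul], fun h2 => hne ?_⟩
    rw [hm]
    linear_combination -h2
  obtain ⟨hanti, h2⟩ := hanti
  have traceless : ∀ {p q : SL2}, (p : M2) * q = -((q : M2) * p) → (p : M2).trace = 0 := by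
    intro p q h
    have e : (p : M2).trace = -(p : M2).trace := by
      conv_lhs => rw [show (p : M2) = (p : M2) * ((q : M2) * ((q⁻¹ : SL2) : M2)) by
        rw [← coe_mul' q, mul_inv_cancel, coe_one', mul_one]]
      rw [← mul_assoc, h, neg_mul, Matrix.trace_neg, mul_assoc, Matrix.trace_mul_comm, mul_assoc,
        ← coe_mul' q⁻¹ q, inv_mul_cancel, coe_one', mul_one]
    have : (2 : F) * (p : M2).trace = 0 := by linear_combination e
    exact (mul_eq_zero.1 this).resolve_left h2
  have hp : IsPair u v := ⟨hanti, traceless hanti, traceless (by rw [hanti, neg_neg]), h2⟩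
  have hmonD : ∀ d ∈ D, IsMonomial (u : M2) v (d : M2) := by
    intro d hd
    have key : ∀ p ∈ D, (d : M2) * p = (p : M2) * d ∨ (d : M2) * p = -((p : M2) * d) := by
      intro p hpD
      obtain ⟨r, hr, he⟩ := mem_center_scalar _ (hcom d hd p hpD)
      have e : (d : M2) * p = r • ((p : M2) * d) := by
        have h1 := congrArg Subtype.val (show d * p = ⁅d, p⁆ * (p * d) by rw [commutatorElement_def]; group)
        rw [coe_mul', coe_mul', coe_mul', he,
          smul_mul_assoc, one_mul] at h1
        exact h1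
      have : (r - 1) * (r + 1) = 0 := by linear_combination hr
      rcases mul_eq_zero.1 this with h | h
      · exact Or.inl (by rw [e, sub_eq_zero.1 h, one_smul])
      · exact Or.inr (by rw [e, eq_neg_of_add_eq_zero_left h, neg_one_smul])
    exact ⟨key u huD, key v hvD⟩
  refine Or.inr (Or.inr (Or.inr ⟨h2, ?_⟩))
  by_cases hsq : IsSquare (2 : F)
  · exact Or.inl hsq
  exact Or.inr fun g hg => hp.monomial_trace (hp.cube hmonD hDn huD hvD hsq hg)

end CfsgLib.Classical.Solubilizer
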