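import Cfsg.Agent.Lib.Classical.Solubilizer.Necessity

/-!
# Solubilizers in `PSL₂`: lifting to `SL₂`, changes of basis, and soluble configurations
-/

set_option autoImplicit false
set_option linter.unusedSectionVars false
set_option linter.unusedSimpArgs false
set_option linter.style.haveILetI false

open Matrix
open scoped MatrixGroups commutatorElement

namespace CfsgLib.Classical.Solubilizer

variable {F : Type*} [Field F]

local notation "M2" => Matrix (Fin 2) (Fin 2) F
local notation "SL2" => Matrix.SpecialLinearGroup (Fin 2) F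
local notation "PSL2" => Matrix.ProjectiveSpecialLinearGroup (Fin 2) F

/-- `a` and `b` generate a soluble subgroup. -/
def Sol (a b : SL2) : Prop := Group.IsSolvable ↥(Subgroup.closure ({a, b} : Set SL2))

/-- The projection onto `PSL₂`. -/
def proj : SL2 →* PSL2 := QuotientGroup.mk' (Subgroup.center SL2)

theorem proj_eq_one {g : SL2} : proj g = (1 : PSL2) ↔ g ∈ Subgroup.center SL2 :=
  QuotientGroup.eq_one_iff g

theorem solvable_map {G G' : Type*} [Group G] [Group G'] (f : G →* G') (H : Subgroup G)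
    (h : Group.IsSolvable H) : Group.IsSolvable (H.map f) := by
  haveI := h
  exact Group.isSolvable_of_surjective (f.subgroupMap_surjective H)

theorem solvable_le {G : Type*} [Group G] {H K : Subgroup G} (hle : H ≤ K) (h : Group.IsSolvable K) :
    Group.IsSolvable H := by
  haveI := h
  exact Group.isSolvable_of_isSolvable_injective (Subgroup.inclusion_injective hle)

theorem solvable_lift {G G' : Type*} [Group G] [Group G'] (f : G →* G') (H : Subgroup G)
    (hk : ∀ x : G, f x = 1 → x ∈ Subgroup.center G) (h : Group.IsSolvable (H.map f)) : Group.IsSolvable H := by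
  haveI := h
  haveI : Group.IsSolvable (f.subgroupMap H).ker := Group.isSolvable_of_comm fun x y => by
    refine Subtype.ext (Subtype.ext ?_)
    have hx : f ((x : H) : G) = 1 := congrArg Subtype.val (MonoidHom.mem_ker.1 x.2)
    exact (Subgroup.mem_center_iff.1 (hk _ hx) _).symm
  exact Group.isSolvable_of_ker_le_range (f.subgroupMap H).ker.subtype (f.subgroupMap H)
    (by rw [Subgroup.range_subtype])

theorem map_closure_pair {G' : Type*} [Group G'] (f : SL2 →* G') (a b : SL2) :
    (Subgroup.closure ({a, b} : Set SL2)).map f = Subgroup.closure {f a, f b} := by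
  rw [MonoidHom.map_closure, Set.image_pair]

theorem sol_proj (a b : SL2) :
    Group.IsSolvable ↥(Subgroup.closure ({proj a, proj b} : Set PSL2)) ↔ Sol a b := by
  rw [← map_closure_pair]
  exact ⟨solvable_lift _ _ fun _ h => proj_eq_one.1 h, solvable_map _ _⟩

theorem sol_map (φ : SL2 ≃* SL2) (a b : SL2) : Sol (φ a) (φ b) ↔ Sol a b := by
  constructor
  · intro h
    have := solvable_map φ.symm.toMonoidHom _ h
    rw [map_closure_pair] at this
    have e : ∀ x : SL2, φ.symm.toMonoidHom (φ x) = x := φ.symm_apply_apply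
    rw [e, e] at this
    exact this
  · intro h
    have := solvable_map φ.toMonoidHom _ h
    rw [map_closure_pair] at this
    exact this

theorem card_sol_map (φ : SL2 ≃* SL2) (a : SL2) :
    Nat.card {b : SL2 // Sol (φ a) b} = Nat.card {b : SL2 // Sol a b} :=
  (Nat.card_congr (φ.toEquiv.subtypeEquiv fun b => (sol_map φ a b).symm)).symm

/-- The solubilizer in `PSL₂` is the image of the one in `SL₂`. -/
theorem card_center_mul (a : SL2) :
    Nat.card (Subgroup.center SL2) *
      Nat.card {y : PSL2 // Group.IsSolvable ↥(Subgroup.closure ({proj a, y} : Set PSL2))} =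
      Nat.card {b : SL2 // Sol a b} := by
  rw [← Nat.card_prod]
  refine (Nat.card_congr (QuotientGroup.preimageMkEquivSubgroupProdSet (Subgroup.center SL2)
    {y : PSL2 | Group.IsSolvable ↥(Subgroup.closure ({proj a, y} : Set PSL2))})).symm.trans ?_
  exact Nat.card_congr (Equiv.subtypeEquivRight fun b => sol_proj a b)

/-- The matrix `!![α, β; γ, δ]` as an element of `SL₂`. -/
def mk2 (α β γ δ : F) (h : α * δ - β * γ = 1) : SL2 := ⟨!![α, β; γ, δ], by rw [det_fin_two_of]; exact h⟩

theorem mk2_coe (α β γ δ : F) (h : α * δ - β * γ = 1) : ((mk2 α β γ δ h : SL2) : M2) = !![α, β; γ, δ] := rfl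

theorem det_eq (b : SL2) : b.1 0 0 * b.1 1 1 - b.1 0 1 * b.1 1 0 = 1 := by
  have h := b.2
  rwa [det_fin_two] at h

theorem sl_ext4 {a b : SL2} (h00 : a.1 0 0 = b.1 0 0) (h01 : a.1 0 1 = b.1 0 1)
    (h10 : a.1 1 0 = b.1 1 0) (h11 : a.1 1 1 = b.1 1 1) : a = b := by
  refine Subtype.ext ?_
  ext i j
  fin_cases i <;> fin_cases j <;> assumption

theorem nonscalar_of_entries (a : SL2) (h : a.1 0 1 ≠ 0 ∨ a.1 1 0 ≠ 0 ∨ a.1 0 0 ≠ a.1 1 1) :
    ∀ r : F, (a : M2) ≠ r • 1 := by
  intro r hr
  rcases h with h | h | h <;> exact h (by simp [hr, Matrix.one_apply])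

/-- The companion matrix of `X² - tX + 1`. -/
def companion (t : F) : SL2 := mk2 0 (-1) 1 t (by ring)

theorem exists_cyclic_vector {A : M2} (hA : ∀ r : F, A ≠ r • 1) :
    ∃ v0 v1 : F, v0 * (A 1 0 * v0 + A 1 1 * v1) - v1 * (A 0 0 * v0 + A 0 1 * v1) ≠ 0 := by
  by_cases h10 : A 1 0 = 0
  · by_cases h01 : A 0 1 = 0
    · refine ⟨1, 1, ?_⟩
      intro h
      refine hA (A 0 0) ?_
      ext i j
      fin_cases i <;> fin_cases j <;> simp [h10, h01, Matrix.one_apply]
      linear_combination h - h10 + h01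
    · exact ⟨0, 1, by simp [h01]⟩
  · exact ⟨1, 0, by simp [h10]⟩

/-- Change of basis. -/
def conjEquiv (P : GL (Fin 2) F) : SL2 ≃* SL2 where
  toFun A := ⟨((P⁻¹ : GL (Fin 2) F) : M2) * (A : M2) * (P : M2), by
    rw [det_mul, det_mul, show (A : M2).det = 1 from A.2, mul_one, ← det_mul, ← Units.val_mul,
      inv_mul_cancel, Units.val_one, det_one]⟩
  invFun A := ⟨(P : M2) * (A : M2) * ((P⁻¹ : GL (Fin 2) F) : M2), by
    rw [det_mul, det_mul, show (A : M2).det = 1 from A.2, mul_one, ← det_mul, ← Units.val_mul,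
      mul_inv_cancel, Units.val_one, det_one]⟩
  left_inv A := Subtype.ext (by simp [mul_assoc, ← mul_assoc (P : M2) ((P⁻¹ : GL (Fin 2) F) : M2)])
  right_inv A := Subtype.ext (by simp [mul_assoc, ← mul_assoc ((P⁻¹ : GL (Fin 2) F) : M2) (P : M2)])
  map_mul' A B := Subtype.ext (by
    show _ * ((A : M2) * (B : M2)) * _ = _ * _
    simp [mul_assoc, ← mul_assoc (P : M2) ((P⁻¹ : GL (Fin 2) F) : M2)])

theorem conjEquiv_coe (P : GL (Fin 2) F) (A : SL2) :
    ((conjEquiv P A : SL2) : M2) = ((P⁻¹ : GL (Fin 2) F) : M2) * (A : M2) * (P : M2) := rfl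

theorem conjEquiv_trace (P : GL (Fin 2) F) (A : SL2) : ((conjEquiv P A : SL2) : M2).trace = (A : M2).trace := by
  rw [conjEquiv_coe, Matrix.trace_mul_comm, ← mul_assoc, ← Units.val_mul, mul_inv_cancel, Units.val_one, one_mul]

theorem exists_to_companion (a : SL2) (ha : ∀ r : F, (a : M2) ≠ r • 1) :
    ∃ P : GL (Fin 2) F, conjEquiv P a = companion (a : M2).trace := by
  obtain ⟨v0, v1, hv⟩ := exists_cyclic_vector ha
  set P : M2 := !![v0, a.1 0 0 * v0 + a.1 0 1 * v1; v1, a.1 1 0 * v0 + a.1 1 1 * v1] with hP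
  have hd : P.det ≠ 0 := by
    rw [hP, det_fin_two_of]
    intro h
    exact hv (by linear_combination h)
  set U : GL (Fin 2) F := Matrix.GeneralLinearGroup.mkOfDetNeZero P hd
  refine ⟨U, Subtype.ext ?_⟩
  rw [conjEquiv_coe]
  have hU : (U : M2) = P := rfl
  have key : (a : M2) * P = P * ((companion (a : M2).trace : SL2) : M2) := by
    have := det_eq a
    rw [hP, companion, mk2_coe]
    ext i j
    fin_cases i <;> fin_cases j <;> simp [Matrix.mul_apply, Fin.sum_univ_two, trace_fin_two]
    · linear_combination -v0 * this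
    · linear_combination -v1 * this
  rw [mul_assoc, hU, key, ← hU, ← mul_assoc, ← Units.val_mul, inv_mul_cancel, Units.val_one, one_mul]

theorem card_sol_eq_of_trace (a a' : SL2) (ha : ∀ r : F, (a : M2) ≠ r • 1) (ha' : ∀ r : F, (a' : M2) ≠ r • 1)
    (ht : (a : M2).trace = (a' : M2).trace) :
    Nat.card {b : SL2 // Sol a b} = Nat.card {b : SL2 // Sol a' b} := by
  obtain ⟨P, hP⟩ := exists_to_companion a ha
  obtain ⟨P', hP'⟩ := exists_to_companion a' ha'
  rw [← card_sol_map (conjEquiv P) a, hP, ht, ← hP', card_sol_map]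

theorem sol_commute {a b : SL2} (h : a * b = b * a) : Sol a b := by
  have hc : IsMulCommutative ↥(Subgroup.closure ({a, b} : Set SL2)) :=
    Subgroup.isMulCommutative_closure (by
      rintro x (rfl | rfl) y (rfl | rfl) <;> first | rfl | exact h | exact h.symm)
  exact Group.isSolvable_of_comm fun x y => mul_comm' x y

/-- The upper triangular subgroup. -/
def upper : Subgroup SL2 where
  carrier := {g | g.1 1 0 = 0}
  one_mem' := by simp
  mul_mem' := fun {g h} hg hh => by
    show ((g : M2) * (h : M2)) 1 0 = 0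
    simp [Matrix.mul_apply, Fin.sum_univ_two, show g.1 1 0 = 0 from hg, show h.1 1 0 = 0 from hh]
  inv_mem' := fun {g} hg => by
    show ((g⁻¹ : SL2) : M2) 1 0 = 0
    rw [Matrix.SpecialLinearGroup.coe_inv, adjugate_fin_two]
    simpa using hg

/-- The diagonal character of the triangular subgroup. -/
def upperChar : ↥(upper (F := F)) →* F where
  toFun g := g.1.1 0 0
  map_one' := by simp
  map_mul' g h := by
    show ((g.1 : M2) * (h.1 : M2)) 0 0 = _
    simp [Matrix.mul_apply, Fin.sum_univ_two, show h.1.1 1 0 = 0 from h.2]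

theorem upper_solvable : Group.IsSolvable ↥(upper (F := F)) := by
  set f : ↥(upper (F := F)) →* Fˣ := upperChar.toHomUnits with hf
  haveI : Group.IsSolvable f.ker := Group.isSolvable_of_comm fun x y => by
    have one : ∀ z : f.ker, z.1.1.1 0 0 = 1 ∧ z.1.1.1 1 1 = 1 := by
      intro z
      have h0 : z.1.1.1 0 0 = 1 := congrArg Units.val (MonoidHom.mem_ker.1 z.2)
      refine ⟨h0, ?_⟩
      have := det_eq z.1.1
      rw [h0, show z.1.1.1 1 0 = 0 from z.1.2] at this
      linear_combination this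
    refine Subtype.ext (Subtype.ext (Subtype.ext ?_))
    show (x.1.1 : M2) * (y.1.1 : M2) = (y.1.1 : M2) * (x.1.1 : M2)
    ext i j
    fin_cases i <;> fin_cases j <;> simp [Matrix.mul_apply, Fin.sum_univ_two, (one x).1, (one x).2,
      (one y).1, (one y).2, show x.1.1.1 1 0 = 0 from x.1.2, show y.1.1.1 1 0 = 0 from y.1.2, add_comm]
  haveI : Group.IsSolvable Fˣ := Group.isSolvable_of_comm fun x y => mul_comm x y
  exact Group.isSolvable_of_ker_le_range f.ker.subtype f (by rw [Subgroup.range_subtype])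

theorem sol_upper {a b : SL2} (ha : a.1 1 0 = 0) (hb : b.1 1 0 = 0) : Sol a b :=
  solvable_le ((Subgroup.closure_le _).2 (by rintro x (rfl | rfl) <;> assumption)) upper_solvable

/-- The matrix exchanging the two basis vectors. -/
def swapGL : GL (Fin 2) F := Matrix.GeneralLinearGroup.mkOfDetNeZero !![0, 1; 1, 0] (by rw [det_fin_two_of]; norm_num)

theorem conj_swap_lower (g : SL2) : (conjEquiv swapGL g : SL2).1 1 0 = g.1 0 1 := by
  have h : ((swapGL : GL (Fin 2) F) : M2) * ((conjEquiv swapGL g : SL2) : M2) = (g : M2) * (swapGL : GL (Fin 2) F) := by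
    rw [conjEquiv_coe, ← mul_assoc, ← mul_assoc, ← Units.val_mul, mul_inv_cancel, Units.val_one, one_mul]
  have := congrFun (congrFun h 0) 0
  simpa [swapGL, Matrix.GeneralLinearGroup.mkOfDetNeZero, Matrix.mul_apply, Fin.sum_univ_two] using this

theorem sol_lower {a b : SL2} (ha : a.1 0 1 = 0) (hb : b.1 0 1 = 0) : Sol a b :=
  (sol_map (conjEquiv swapGL) a b).1
    (sol_upper (by rw [conj_swap_lower]; exact ha) (by rw [conj_swap_lower]; exact hb))

theorem solvable_involutions {G : Type*} [Group G] {s t : G} (hs : s * s = 1) (ht : t * t = 1) :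
    Group.IsSolvable ↥(Subgroup.closure ({s, t} : Set G)) := by
  set H := Subgroup.closure ({s, t} : Set G)
  have hsH : s ∈ H := Subgroup.subset_closure (Or.inl rfl)
  have htH : t ∈ H := Subgroup.subset_closure (Or.inr rfl)
  set c : H := ⟨s * t, mul_mem hsH htH⟩
  have hs' : (⟨s, hsH⟩ : H) * c * (⟨s, hsH⟩ : H)⁻¹ = c⁻¹ := Subtype.ext (by
    have si : s⁻¹ = s := inv_eq_of_mul_eq_one_right hs
    have ti : t⁻¹ = t := inv_eq_of_mul_eq_one_right ht
    show s * (s * t) * s⁻¹ = (s * t)⁻¹
    rw [_root_.mul_inv_rev, si, ti, ← mul_assoc s s, hs, one_mul])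
  have gen : Subgroup.closure ((↑) ⁻¹' ({s, t} : Set G) : Set H) = ⊤ := Subgroup.closure_closure_coe_preimage
  have hmem : ∀ x ∈ ((↑) ⁻¹' ({s, t} : Set G) : Set H), x = ⟨s, hsH⟩ ∨ x = ⟨s, hsH⟩ * c := by
    rintro ⟨x, hx⟩ (h | h)
    · exact Or.inl (Subtype.ext h)
    · refine Or.inr (Subtype.ext ?_)
      show x = s * (s * t)
      rw [← mul_assoc, hs, one_mul]
      exact h
  haveI hN : (Subgroup.zpowers c).Normal := by
    rw [← Subgroup.normalizer_eq_top_iff, eq_top_iff, ← gen, Subgroup.closure_le]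
    have hsn : (⟨s, hsH⟩ : H) ∈ Subgroup.normalizer (Subgroup.zpowers c : Set H) := by
      rw [Subgroup.mem_normalizer_iff]
      intro n
      constructor
      · rintro ⟨k, rfl⟩
        exact ⟨-k, by simp [← conj_zpow, hs']⟩
      · rintro ⟨k, hk⟩
        refine ⟨-k, ?_⟩
        have hc' : (⟨s, hsH⟩ : H) * c⁻¹ * (⟨s, hsH⟩ : H)⁻¹ = c := by rw [← conj_inv, hs', inv_inv]
        have : (⟨s, hsH⟩ : H) * c ^ (-k) * (⟨s, hsH⟩ : H)⁻¹ = c ^ k := by
          rw [← conj_zpow, hs', _root_.zpow_neg, _root_.inv_zpow, inv_inv]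
        exact mul_left_cancel (mul_right_cancel (this.trans hk))
    intro x hx
    rcases hmem x hx with h | h <;> rw [h]
    · exact hsn
    · exact mul_mem hsn (Subgroup.le_normalizer (Subgroup.mem_zpowers c))
  haveI : Group.IsSolvable (Subgroup.zpowers c) := Group.isSolvable_of_comm fun x y => mul_comm' x y
  haveI : Group.IsSolvable (H ⧸ Subgroup.zpowers c) := by
    refine Group.isSolvable_of_comm ?_
    have hz : (⊤ : Subgroup (H ⧸ Subgroup.zpowers c)) ≤
        Subgroup.zpowers (QuotientGroup.mk (⟨s, hsH⟩ : H)) := by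
      rw [← Subgroup.map_top_of_surjective (QuotientGroup.mk' (Subgroup.zpowers c))
        (QuotientGroup.mk'_surjective _), ← gen, MonoidHom.map_closure, Subgroup.closure_le]
      rintro _ ⟨x, hx, rfl⟩
      rcases hmem x hx with h | h
      · exact ⟨1, by simp [h]⟩
      · refine ⟨1, ?_⟩
        simp [h, (QuotientGroup.eq_one_iff c).2 (Subgroup.mem_zpowers c)]
    intro x y
    obtain ⟨i, rfl⟩ := hz (Subgroup.mem_top x)
    obtain ⟨j, rfl⟩ := hz (Subgroup.mem_top y)
    exact (Commute.zpow_zpow_self _ i j).eq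
  exact Group.isSolvable_of_ker_le_range (Subgroup.zpowers c).subtype (QuotientGroup.mk' (Subgroup.zpowers c))
    (by simp)

theorem proj_sq_of_trace {g : SL2} (h : (g : M2).trace = 0) : (proj g : PSL2) * proj g = 1 := by
  rw [← map_mul, proj_eq_one, center_iff]
  exact ⟨-1, by rw [coe_mul', cayley_zero _ g.2 h, neg_one_smul]⟩

theorem sol_twoZero {a b : SL2} (h : TwoZero a b) : Sol a b := by
  rw [← sol_proj]
  rcases h with ⟨ha, hb⟩ | ⟨ha, hab⟩ | ⟨hb, hab⟩
  · exact solvable_involutions (proj_sq_of_trace ha) (proj_sq_of_trace hb)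
  · refine solvable_le ((Subgroup.closure_le _).2 ?_) (solvable_involutions (proj_sq_of_trace ha) (proj_sq_of_trace hab))
    rintro x (rfl | rfl)
    · exact Subgroup.subset_closure (Or.inl rfl)
    · have : proj b = (proj a)⁻¹ * proj (a * b) := by rw [map_mul, inv_mul_cancel_left]
      rw [this]
      exact mul_mem (inv_mem (Subgroup.subset_closure (Or.inl rfl))) (Subgroup.subset_closure (Or.inr rfl))
  · refine solvable_le ((Subgroup.closure_le _).2 ?_) (solvable_involutions (proj_sq_of_trace hb) (proj_sq_of_trace hab))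
    rintro x (rfl | rfl)
    · have : proj a = proj (a * b) * (proj b)⁻¹ := by rw [map_mul, mul_inv_cancel_right]
      rw [this]
      exact mul_mem (Subgroup.subset_closure (Or.inr rfl)) (inv_mem (Subgroup.subset_closure (Or.inl rfl)))
    · exact Subgroup.subset_closure (Or.inl rfl)

end CfsgLib.Classical.Solubilizer
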